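import Cfsg.Agent.Lib.PGU3Even.Chart

/-!
# The centraliser of an involution of `PGU(3, q)`, `q` even
-/

set_option autoImplicit false
set_option linter.style.haveILetI false
set_option linter.unusedSectionVars false

namespace Cfsg.Lib.PGU3Even

open Matrix Cfsg.Lib.Spec.UThree Cfsg.Lib.U3Even

/-- The properties of the centraliser of an involution in `PGU(3, q)`. -/
structure Shape (C : Type*) [Group C] (n : ℕ) : Prop where
  two : ∃ S : Subgroup C, S.Normal ∧ Nat.card S = (2 ^ n) ^ 3 ∧ Nat.card C = (2 ^ n) ^ 3 * (2 ^ n + 1) ∧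
    (∀ a b : C, a * b * a⁻¹ * b⁻¹ ∈ S) ∧ ∀ x : C, (∀ s ∈ S, x * s = s * x) → x ∈ S
  central : ∀ x : C, orderOf x = 2 → ∀ y : C, x * y = y * x
  count : Nat.card {x : C // orderOf x = 2} = 2 ^ n - 1

theorem Shape.congr {C C' : Type*} [Group C] [Group C'] {n : ℕ} (e : C' ≃* C) (h : Shape C n) :
    Shape C' n := by
  obtain ⟨S, hSn, hS, hC, hcom, hs⟩ := h.two
  refine ⟨⟨S.comap e.toMonoidHom, hSn.comap _, ?_, ?_, fun a b => ?_, fun x hx => ?_⟩, ?_, ?_⟩
  · exact (Nat.card_congr (e.toEquiv.subtypeEquiv fun x => Iff.rfl)).trans hS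
  · exact (Nat.card_congr e.toEquiv).trans hC
  · simpa [Subgroup.mem_comap, map_mul] using hcom (e a) (e b)
  · refine hs (e x) fun s hs' => ?_
    have := congrArg e (hx (e.symm s) (by simpa [Subgroup.mem_comap] using hs'))
    simpa [map_mul] using this
  · intro x hx y
    apply e.injective
    rw [map_mul, map_mul]
    exact h.central (e x) (by rw [e.orderOf_eq, hx]) (e y)
  · refine (Nat.card_congr (e.toEquiv.subtypeEquiv fun x => ?_)).trans h.count
    show orderOf x = 2 ↔ orderOf (e x) = 2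
    rw [e.orderOf_eq]

variable {F : Type*} [Field F] [Fintype F] {n : ℕ}

/-- The norm-one elements. -/
def normOne (F : Type*) [Field F] (q : ℕ) : Subgroup Fˣ := (powMonoidHom (q + 1)).ker

theorem mem_normOne {q : ℕ} {μ : Fˣ} : μ ∈ normOne F q ↔ (μ : F) ^ (q + 1) = 1 := by
  rw [normOne, MonoidHom.mem_ker, powMonoidHom_apply, ← Units.val_eq_one, Units.val_pow_eq_pow_val]

theorem card_normOne (hn : 1 ≤ n) (hF : Fintype.card F = (2 ^ n) ^ 2) :
    Nat.card (normOne F (2 ^ n)) = 2 ^ n + 1 := by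
  rw [normOne, IsCyclic.card_powMonoidHom_ker, Nat.card_units, Nat.card_eq_fintype_card, hF]
  refine Nat.gcd_eq_right ⟨2 ^ n - 1, ?_⟩
  obtain ⟨m, hm⟩ : ∃ m, 2 ^ n = m + 1 := ⟨2 ^ n - 1, by have := Nat.one_le_two_pow (n := n); omega⟩
  rw [hm, Nat.add_sub_cancel]
  have : (m + 1) ^ 2 = (m + 1 + 1) * m + 1 := by ring
  rw [this, Nat.add_sub_cancel]

/-- The pairs parametrising a Sylow 2-subgroup. -/
abbrev Pairs (F : Type*) [Field F] (q : ℕ) : Type _ := {p : F × F // p.2 ^ q + p.2 = p.1 ^ (q + 1)}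

theorem card_pairs (hn : 1 ≤ n) (hF : Fintype.card F = (2 ^ n) ^ 2) :
    Nat.card (Pairs F (2 ^ n)) = (2 ^ n) ^ 3 := by
  classical
  have hk := (tr_facts hn hF).1
  have h1 : ∀ a : F, Nat.card {b : F // b ^ (2 ^ n) + b = a ^ (2 ^ n + 1)} = 2 ^ n := by
    intro a
    obtain ⟨b₀, hb₀⟩ := exists_point hn hF a
    refine Eq.trans (Nat.card_congr (β := (trMap hn hF).ker)
      { toFun := fun b => ⟨b.1 + b₀, ?_⟩
        invFun := fun x => ⟨x.1 + b₀, ?_⟩
        left_inv := fun b => Subtype.ext (by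
          show b.1 + b₀ + b₀ = b.1; rw [add_assoc, add_self hn hF, add_zero])
        right_inv := fun x => Subtype.ext (by
          show x.1 + b₀ + b₀ = x.1; rw [add_assoc, add_self hn hF, add_zero]) }) hk
    · rw [mem_tr_ker, frob_add hn hF]
      linear_combination b.2 + hb₀ - add_self hn hF (b.1 + b₀) + add_self hn hF (a ^ (2 ^ n + 1))
    · have hx := (mem_tr_ker hn hF x.1).1 x.2
      rw [frob_add hn hF, hx]
      linear_combination hb₀ + add_self hn hF x.1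
  rw [Nat.card_congr ({
      toFun := fun p => ⟨p.1.1, ⟨p.1.2, p.2⟩⟩
      invFun := fun s => ⟨(s.1, s.2.1), s.2.2⟩
      left_inv := fun _ => rfl
      right_inv := fun _ => rfl } :
      Pairs F (2 ^ n) ≃ Σ a : F, {b : F // b ^ (2 ^ n) + b = a ^ (2 ^ n + 1)}), Nat.card_sigma]
  simp only [h1, Finset.sum_const, Finset.card_univ, smul_eq_mul, hF]
  ring

/-- The matrices of the centraliser of a transvection. -/
def cm (q : ℕ) (μ a b : F) : Matrix (Fin 3) (Fin 3) F := !![1, a * μ, b; 0, μ, a ^ q; 0, 0, 1]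

theorem cm_one (q : ℕ) (a b : F) : cm q 1 a b = um q a b := by simp [cm, um]

theorem um_form (hn : 1 ≤ n) (hF : Fintype.card F = (2 ^ n) ^ 2) {a b : F}
    (h : b ^ (2 ^ n) + b = a ^ (2 ^ n + 1)) :
    (um (2 ^ n) a b)ᵀ * antiDiag F * (um (2 ^ n) a b).map (· ^ (2 ^ n)) = antiDiag F := by
  have hq0 : 2 ^ n ≠ 0 := by positivity
  have hff := frob_frob hF a
  have t2 := two_eq_zero hn hF
  rw [pow_succ] at h
  ext i j
  fin_cases i <;> fin_cases j <;>
    simp [um, antiDiag, Matrix.mul_apply, Fin.sum_univ_three, zero_pow hq0, hff] <;> grind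

theorem cm_form (hn : 1 ≤ n) (hF : Fintype.card F = (2 ^ n) ^ 2) {μ a b : F}
    (hμ : μ ^ (2 ^ n + 1) = 1) (h : b ^ (2 ^ n) + b = a ^ (2 ^ n + 1)) :
    (cm (2 ^ n) μ a b)ᵀ * antiDiag F * (cm (2 ^ n) μ a b).map (· ^ (2 ^ n)) = antiDiag F := by
  have hq0 : 2 ^ n ≠ 0 := by positivity
  have hff := frob_frob hF a
  have t2 := two_eq_zero hn hF
  rw [pow_succ] at h hμ
  ext i j
  fin_cases i <;> fin_cases j <;>
    simp [cm, antiDiag, Matrix.mul_apply, Fin.sum_univ_three, zero_pow hq0, hff, mul_pow] <;> grind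

/-- The normal form of a matrix commuting with a transvection up to a scalar. -/
theorem normal_form (hn : 1 ≤ n) (hF : Fintype.card F = (2 ^ n) ^ 2) {M : Matrix (Fin 3) (Fin 3) F} {k : F}
    (hM : Mᵀ * antiDiag F * M.map (· ^ (2 ^ n)) = antiDiag F)
    (h : um (2 ^ n) 0 1 * M = k • (M * um (2 ^ n) 0 1)) :
    k = 1 ∧ ∃ μ a b ρ : F, μ ^ (2 ^ n + 1) = 1 ∧ b ^ (2 ^ n) + b = a ^ (2 ^ n + 1) ∧ ρ ^ (2 ^ n + 1) = 1 ∧
      M = ρ • cm (2 ^ n) μ a b := by
  have hq0 : 2 ^ n ≠ 0 := by positivity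
  have hff := frob_frob (n := n) hF
  have t2 := two_eq_zero hn hF
  have e := fun i j => congrFun (congrFun h i) j
  simp [um, Matrix.mul_apply, Fin.sum_univ_three, zero_pow hq0, Fin.forall_fin_succ] at e
  obtain ⟨⟨e00, e01, e02⟩, ⟨e10, e11, e12⟩, e20, e21, e22⟩ := e
  have hrow : ∀ i j, M 0 i * M 2 j ^ (2 ^ n) + M 1 i * M 1 j ^ (2 ^ n) + M 2 i * M 0 j ^ (2 ^ n) =
      antiDiag F i j := fun i j => by
    have := congrFun (congrFun hM i) j
    simp only [Matrix.mul_apply, Fin.sum_univ_three, Matrix.transpose_apply, Matrix.map_apply] at this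
    rw [← this]
    simp [antiDiag]
    ring
  have hk : k = 1 := by
    by_contra hk
    have z : ∀ x : F, x = k * x → x = 0 := fun x hx =>
      (mul_eq_zero.1 (show (k - 1) * x = 0 by linear_combination -hx)).resolve_left (sub_ne_zero.2 hk)
    have h20 := z _ e20
    have h10 := z _ e10
    have h00 : M 0 0 = 0 := z _ (by rw [h20] at e00; simpa using e00)
    have := hrow 0 2
    rw [h20, h10, h00] at this
    simp [antiDiag] at this
  subst hk
  simp only [one_mul] at e00 e01 e02 e10 e11 e12 e20 e21 e22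
  have h20 : M 2 0 = 0 := by linear_combination e00
  have h21 : M 2 1 = 0 := by linear_combination e01
  have h10 : M 1 0 = 0 := by linear_combination -e12
  have h22 : M 2 2 = M 0 0 := by linear_combination e02
  have r02 := hrow 0 2
  rw [h20, h10, h22] at r02
  simp [antiDiag] at r02
  have hρ0 : M 0 0 ≠ 0 := fun e => by rw [e] at r02; simp at r02
  have r11 := hrow 1 1
  rw [h21] at r11
  simp [antiDiag, zero_pow hq0] at r11
  have r12 := hrow 1 2
  rw [h21, h22] at r12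
  simp [antiDiag] at r12
  have r22 := hrow 2 2
  rw [h22] at r22
  simp [antiDiag] at r22
  have hμ0 : M 1 1 ≠ 0 := fun e => by rw [e] at r11; simp at r11
  obtain ⟨ρ, hρ⟩ : ∃ ρ, ρ = M 0 0 := ⟨_, rfl⟩
  obtain ⟨μ, hμ⟩ : ∃ μ, μ = M 1 1 / ρ := ⟨_, rfl⟩
  obtain ⟨a, ha⟩ : ∃ a, a = M 0 1 / (ρ * μ) := ⟨_, rfl⟩
  obtain ⟨b, hb⟩ : ∃ b, b = M 0 2 / ρ := ⟨_, rfl⟩
  rw [← hρ] at r02 r12 r22 hρ0
  have hρq : ρ ^ (2 ^ n + 1) = 1 := by rw [pow_succ]; linear_combination r02
  have hμn : μ ^ (2 ^ n + 1) = 1 := by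
    rw [hμ, div_pow, hρq, div_one, pow_succ]; linear_combination r11
  have hμne : μ ≠ 0 := fun e => by rw [e, zero_pow (Nat.succ_ne_zero _)] at hμn; exact zero_ne_one hμn
  have e11' : M 1 1 = ρ * μ := by rw [hμ]; field_simp
  have e01' : M 0 1 = ρ * (a * μ) := by rw [ha]; field_simp
  have e02' : M 0 2 = ρ * b := by rw [hb]; field_simp
  have hμn' : μ * μ ^ (2 ^ n) = 1 := by rw [← pow_succ', hμn]
  have e12' : M 1 2 = ρ * a ^ (2 ^ n) := by
    rw [e01', e11'] at r12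
    have h1 : a * μ + μ * (M 1 2 / ρ) ^ (2 ^ n) = 0 := by
      have hρq0 : ρ ^ (2 ^ n) ≠ 0 := pow_ne_zero _ hρ0
      rw [div_pow]
      field_simp
      refine mul_left_cancel₀ hρ0 ?_
      linear_combination r12
    have h2 : (M 1 2 / ρ) ^ (2 ^ n) = a := by
      have : μ * ((M 1 2 / ρ) ^ (2 ^ n) - a) = 0 := by linear_combination h1 - a * μ * t2
      exact sub_eq_zero.1 ((mul_eq_zero.1 this).resolve_left hμne)
    have h3 := congrArg (· ^ (2 ^ n)) h2
    simp only [hff] at h3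
    rw [← h3]; field_simp
  have hcond : b ^ (2 ^ n) + b = a ^ (2 ^ n + 1) := by
    rw [e02', e12', mul_pow, mul_pow, hff] at r22
    rw [pow_succ]
    linear_combination r22 - (b ^ (2 ^ n) + b + a ^ (2 ^ n) * a) * (r02) + (-(a ^ (2 ^ n) * a)) * t2
  refine ⟨rfl, μ, a, b, ρ, hμn, hcond, hρq, ?_⟩
  ext i j
  fin_cases i <;> fin_cases j <;> simp [cm, ← hρ, h10, h20, h21, h22, e11', e01', e02', e12']

theorem exists_involution (hn : 1 ≤ n) (hF : Fintype.card F = (2 ^ n) ^ 2) :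
    ∃ y : Cfsg.GU 3 F (2 ^ n) ⧸ Subgroup.center (Cfsg.GU 3 F (2 ^ n)), orderOf y = 2 ∧
      Shape (Subgroup.centralizer ({y} : Set (Cfsg.GU 3 F (2 ^ n) ⧸ Subgroup.center (Cfsg.GU 3 F (2 ^ n))))) n := by
  classical
  have hq0 : 2 ^ n ≠ 0 := by positivity
  have t2 := two_eq_zero hn hF
  obtain ⟨cc⟩ := exists_chart hn hF
  set Z := Subgroup.center (Cfsg.GU 3 F (2 ^ n))
  obtain ⟨g₀, hg₀⟩ := cc.exists_of _ (um_form hn hF
    (show (1 : F) ^ (2 ^ n) + 1 = (0 : F) ^ (2 ^ n + 1) by simp [zero_pow (Nat.succ_ne_zero _)]; linear_combination t2))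
  let π := QuotientGroup.mk' Z
  have hπ : ∀ {g : Cfsg.GU 3 F (2 ^ n)} {μ a b ρ : F}, cc.c g = ρ • cm (2 ^ n) μ a b →
      (π g = 1 ↔ μ = 1 ∧ a = 0 ∧ b = 0) := by
    intro g μ a b ρ hg
    have hρ : ρ ≠ 0 := fun e => by
      have := cc.form g
      rw [hg, e, zero_smul] at this
      have := congrFun (congrFun this 1) 1
      simp [antiDiag] at this
    show (g : Cfsg.GU 3 F (2 ^ n) ⧸ Z) = 1 ↔ _
    rw [QuotientGroup.eq_one_iff, cc.center, hg]
    constructor
    · rintro ⟨k, hk⟩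
      have e := fun i j => congrFun (congrFun hk i) j
      simp [cm, Fin.forall_fin_succ, hρ] at e
      obtain ⟨⟨e00, e01, e02⟩, e11, e22⟩ := e
      refine ⟨?_, ?_, e02⟩
      · exact mul_left_cancel₀ hρ (by linear_combination e11.1 - e00)
      · rcases e01 with e | e
        · exact e
        · rw [e, mul_zero] at e11
          exact absurd (e00.trans e11.1.symm) hρ
    · rintro ⟨rfl, rfl, rfl⟩
      refine ⟨ρ, ?_⟩
      ext i j
      fin_cases i <;> fin_cases j <;> simp [cm, zero_pow hq0]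
  have hy2 : orderOf (π g₀) = 2 := by
    refine orderOf_eq_prime ?_ ?_
    · rw [sq, ← map_mul, hπ (μ := 1) (a := 0) (b := 0) (ρ := 1) ?_]
      · simp
      · rw [map_mul, hg₀, um_mul hn hF, one_smul, cm_one]
        simp [zero_pow hq0, add_self hn hF]
    · rw [Ne, hπ (μ := 1) (a := 0) (b := 1) (ρ := 1) (by rw [hg₀, one_smul, cm_one])]
      simp
  refine ⟨π g₀, hy2, ?_⟩
  set C := Subgroup.centralizer ({π g₀} : Set (Cfsg.GU 3 F (2 ^ n) ⧸ Z))
  -- parametrisation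
  have hmem : ∀ x ∈ C, ∃ (g : Cfsg.GU 3 F (2 ^ n)) (μ a b ρ : F), π g = x ∧ μ ^ (2 ^ n + 1) = 1 ∧ b ^ (2 ^ n) + b = a ^ (2 ^ n + 1) ∧
      cc.c g = ρ • cm (2 ^ n) μ a b := by
    intro x hx
    obtain ⟨g, rfl⟩ := QuotientGroup.mk'_surjective Z x
    have h1 : π (g₀ * g) = π (g * g₀) := by
      rw [map_mul, map_mul]; exact (Subgroup.mem_centralizer_singleton_iff.1 hx).symm
    obtain ⟨z, hz, e⟩ := (QuotientGroup.mk'_eq_mk' Z).1 h1.symm
    obtain ⟨k, hk⟩ := (cc.center z).1 hz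
    have h2 : um (2 ^ n) 0 1 * cc.c g = k • (cc.c g * um (2 ^ n) 0 1) := by
      rw [← hg₀, ← map_mul, ← map_mul, ← e, map_mul _ _ z, hk, ← (Matrix.scalar_commute k (Commute.all k) _).eq]
      rw [Matrix.scalar_apply, ← Matrix.smul_eq_diagonal_mul]
    obtain ⟨-, μ, a, b, ρ, h3, h4, -, h5⟩ := normal_form hn hF (cc.form g) h2
    exact ⟨g, μ, a, b, ρ, rfl, h3, h4, h5⟩
  have hex : ∀ (μ : normOne F (2 ^ n)) (p : Pairs F (2 ^ n)),
      ∃ g, cc.c g = cm (2 ^ n) ((μ : Fˣ) : F) p.1.1 p.1.2 :=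
    fun μ p => cc.exists_of _ (cm_form hn hF (mem_normOne.1 μ.2) p.2)
  choose el hel using hex
  have helC : ∀ μ p, π (el μ p) ∈ C := by
    intro μ p
    rw [Subgroup.mem_centralizer_singleton_iff, ← map_mul, ← map_mul]
    refine congrArg π (cc.inj ?_)
    rw [map_mul, map_mul, hel, hg₀]
    ext i j
    fin_cases i <;> fin_cases j <;> simp [cm, um, Matrix.mul_apply, Fin.sum_univ_three, zero_pow hq0]
    ring
  let Φ : normOne F (2 ^ n) × Pairs F (2 ^ n) → C := fun s => ⟨π (el s.1 s.2), helC _ _⟩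
  have hΦ : Function.Bijective Φ := by
    constructor
    · rintro ⟨μ, p⟩ ⟨μ', p'⟩ e
      have e' : π (el μ p) = π (el μ' p') := congrArg Subtype.val e
      obtain ⟨z, hz, ez⟩ := (QuotientGroup.mk'_eq_mk' Z).1 e'
      obtain ⟨k, hk⟩ := (cc.center z).1 hz
      have h := congrArg cc.c ez
      rw [map_mul, hel, hel, hk] at h
      have h00 := congrFun (congrFun h 0) 0
      simp [cm, Matrix.scalar_apply, Matrix.mul_diagonal] at h00
      subst h00
      have h' := fun i j => congrFun (congrFun h i) j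
      simp [cm, Matrix.scalar_apply, Fin.forall_fin_succ] at h'
      obtain ⟨⟨f01, f02⟩, f11, -⟩ := h'
      have hμ : μ = μ' := Subtype.ext (Units.ext f11)
      subst hμ
      exact Prod.ext rfl (Subtype.ext (Prod.ext
        (mul_right_cancel₀ (Units.ne_zero _) f01) f02))
    · rintro ⟨x, hx⟩
      obtain ⟨g, μ, a, b, ρ, rfl, hμ, hab, hg⟩ := hmem x hx
      have hμ0 : μ ≠ 0 := fun e => by rw [e, zero_pow (Nat.succ_ne_zero _)] at hμ; exact zero_ne_one hμ
      refine ⟨⟨⟨Units.mk0 μ hμ0, mem_normOne.2 hμ⟩, ⟨(a, b), hab⟩⟩, Subtype.ext ?_⟩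
      show π (el _ _) = π g
      have hρ : ρ ≠ 0 := fun e => by
        have := cc.form g
        rw [hg, e, zero_smul] at this
        have := congrFun (congrFun this 1) 1
        simp [antiDiag] at this
      have hz : (el ⟨Units.mk0 μ hμ0, mem_normOne.2 hμ⟩ ⟨(a, b), hab⟩)⁻¹ * g ∈ Z := by
        rw [cc.center]
        refine ⟨ρ, ?_⟩
        have h := congrArg cc.c (mul_inv_cancel_left (el ⟨Units.mk0 μ hμ0, mem_normOne.2 hμ⟩ ⟨(a, b), hab⟩) g)
        rw [map_mul, hel] at h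
        have hu := congrArg cc.c (inv_mul_cancel (el ⟨Units.mk0 μ hμ0, mem_normOne.2 hμ⟩ ⟨(a, b), hab⟩))
        rw [map_mul, hel, map_one] at hu
        rw [map_mul, hg, Matrix.mul_smul]
        simp only [Units.val_mk0] at hu ⊢
        rw [hu, Matrix.scalar_apply, ← Matrix.smul_one_eq_diagonal]
      exact (QuotientGroup.eq.2 hz)
  let Ψ := Equiv.ofBijective Φ hΦ
  have hΨ : ∀ μ p, (Ψ (μ, p) : Cfsg.GU 3 F (2 ^ n) ⧸ Z) = π (el μ p) := fun _ _ => rfl
  -- multiplication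
  have hmul : ∀ s s', (Ψ.symm (Ψ s * Ψ s')).1 = s.1 * s'.1 := by
    rintro ⟨μ, p⟩ ⟨μ', p'⟩
    obtain ⟨⟨μ'', p''⟩, e⟩ : ∃ s'', Ψ s'' = Ψ (μ, p) * Ψ (μ', p') := Ψ.surjective _
    rw [← e, Ψ.symm_apply_apply]
    have e' : π (el μ'' p'') = π (el μ p * el μ' p') := by
      rw [map_mul, ← hΨ, ← hΨ, ← hΨ, e]; rfl
    obtain ⟨z, hz, ez⟩ := (QuotientGroup.mk'_eq_mk' Z).1 e'
    obtain ⟨k, hk⟩ := (cc.center z).1 hz
    have h := congrArg cc.c ez
    rw [map_mul, map_mul, hel, hel, hel, hk] at h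
    have h00 := congrFun (congrFun h 0) 0
    simp [cm, Matrix.scalar_apply, Matrix.mul_diagonal, Matrix.mul_apply, Fin.sum_univ_three] at h00
    have h11 := congrFun (congrFun h 1) 1
    simp [cm, Matrix.scalar_apply, Matrix.mul_diagonal, Matrix.mul_apply, Fin.sum_univ_three, h00] at h11
    exact Subtype.ext (Units.ext h11)
  let f : C →* normOne F (2 ^ n) := MonoidHom.mk' (fun x => (Ψ.symm x).1) fun x y => by
    have := hmul (Ψ.symm x) (Ψ.symm y)
    rwa [Ψ.apply_symm_apply, Ψ.apply_symm_apply] at this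
  have hf : ∀ μ p, f (Ψ (μ, p)) = μ := fun μ p => congrArg Prod.fst (Ψ.symm_apply_apply (μ, p))
  have horder : ∀ μ p, orderOf (Ψ (μ, p)) = 2 → μ = 1 ∧ p.1.1 = 0 := by
    intro μ p h
    have hx : Ψ (μ, p) * Ψ (μ, p) = 1 := by
      have := pow_orderOf_eq_one (Ψ (μ, p)); rwa [h, sq] at this
    have hμ : μ * μ = 1 := by
      have := congrArg f hx
      rwa [map_mul, map_one, hf] at this
    have hμ1 : μ = 1 := by
      have : ((μ : Fˣ) : F) * ((μ : Fˣ) : F) = 1 := by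
        simpa using congrArg (fun z : normOne F (2 ^ n) => ((z : Fˣ) : F)) hμ
      refine Subtype.ext (Units.ext ?_)
      show ((μ : Fˣ) : F) = 1
      rcases mul_self_eq_one_iff.1 this with e | e
      · exact e
      · rw [e]; linear_combination -t2
    subst hμ1
    refine ⟨rfl, ?_⟩
    have hx' : π (el 1 p * el 1 p) = 1 := by rw [map_mul, ← hΨ]; exact congrArg Subtype.val hx
    rw [hπ (μ := 1) (a := 0) (b := p.1.1 * p.1.1 ^ (2 ^ n)) (ρ := 1) ?_] at hx'
    · rcases mul_eq_zero.1 hx'.2.2 with e | e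
      · exact e
      · exact eq_zero_of_pow_eq_zero e
    · rw [map_mul, hel, one_smul]
      simp only [OneMemClass.coe_one, Units.val_one, cm_one]
      rw [um_mul hn hF]
      congr 1
      · exact add_self hn hF _
      · linear_combination add_self hn hF p.1.2
  have hel1 : ∀ p, cc.c (el 1 p) = um (2 ^ n) p.1.1 p.1.2 := fun p => by
    rw [hel]; simp [cm_one]
  refine ⟨⟨f.ker, inferInstance, ?_, ?_, fun a b => ?_, fun x hx => ?_⟩, fun x hx y => ?_, ?_⟩
  · rw [← card_pairs hn hF]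
    refine Nat.card_congr
      { toFun := fun x => (Ψ.symm x.1).2
        invFun := fun p => ⟨Ψ (1, p), hf 1 p⟩
        left_inv := fun x => Subtype.ext ?_
        right_inv := fun p => by show (Ψ.symm (Ψ (1, p))).2 = p; rw [Ψ.symm_apply_apply] }
    show Ψ (1, (Ψ.symm x.1).2) = x.1
    have h1 : (Ψ.symm x.1).1 = 1 := x.2
    rw [← h1, Prod.mk.eta, Ψ.apply_symm_apply]
  · rw [← Nat.card_congr Ψ, Nat.card_prod, card_normOne hn hF, card_pairs hn hF, mul_comm]
  · rw [MonoidHom.mem_ker]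
    simp only [map_mul, map_inv]
    rw [mul_comm (f a) (f b), mul_inv_cancel_right, mul_inv_cancel]
  · obtain ⟨⟨μ, p⟩, rfl⟩ := Ψ.surjective x
    rw [MonoidHom.mem_ker, hf]
    obtain ⟨b, hb⟩ := exists_point hn hF (1 : F)
    have h := congrArg Subtype.val (hx (Ψ (1, ⟨(1, b), hb⟩)) (hf _ _))
    rw [Subgroup.coe_mul, Subgroup.coe_mul, hΨ, hΨ, ← map_mul, ← map_mul] at h
    obtain ⟨z, hz, ez⟩ := (QuotientGroup.mk'_eq_mk' Z).1 h
    obtain ⟨k, hk⟩ := (cc.center z).1 hz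
    have h := congrArg cc.c ez
    rw [map_mul, map_mul, map_mul, hk, hel, hel1] at h
    have h00 := congrFun (congrFun h 0) 0
    simp [cm, um, Matrix.scalar_apply, Matrix.mul_diagonal, Matrix.mul_apply, Fin.sum_univ_three] at h00
    have h12 := congrFun (congrFun h 1) 2
    simp [cm, um, Matrix.scalar_apply, Matrix.mul_diagonal, Matrix.mul_apply, Fin.sum_univ_three, h00] at h12
    refine Subtype.ext (Units.ext ?_)
    show ((μ : Fˣ) : F) = 1
    linear_combination h12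
  · obtain ⟨⟨μ, p⟩, rfl⟩ := Ψ.surjective x
    obtain ⟨⟨μ', p'⟩, rfl⟩ := Ψ.surjective y
    obtain ⟨rfl, hp⟩ := horder μ p hx
    apply Subtype.ext
    rw [Subgroup.coe_mul, Subgroup.coe_mul, hΨ, hΨ, ← map_mul, ← map_mul]
    refine congrArg π (cc.inj ?_)
    rw [map_mul, map_mul, hel1, hel, hp]
    ext i j
    fin_cases i <;> fin_cases j <;> simp [cm, um, Matrix.mul_apply, Fin.sum_univ_three, zero_pow hq0]
    ring
  · have hker : Nat.card (trMap hn hF).ker = 2 ^ n := (tr_facts hn hF).1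
    have hone : ∀ p : Pairs F (2 ^ n), p.1 = (0, 0) → Ψ (1, p) = 1 := fun p hp => Subtype.ext (by
      rw [hΨ, show ((1 : C) : Cfsg.GU 3 F (2 ^ n) ⧸ Z) = 1 from rfl, hπ (μ := 1) (a := 0) (b := 0) (ρ := 1)]
      · simp
      · rw [hel1, hp, one_smul, cm_one])
    have hinv : ∀ p : Pairs F (2 ^ n), p.1.1 = 0 → p.1.2 ≠ 0 → orderOf (Ψ (1, p)) = 2 := by
      intro p ha hb
      rw [← Subgroup.orderOf_coe, hΨ]
      refine orderOf_eq_prime ?_ ?_
      · rw [sq, ← map_mul, hπ (μ := 1) (a := 0) (b := 0) (ρ := 1)]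
        · simp
        · rw [map_mul, hel1, ha, one_smul, cm_one, um_mul hn hF]
          simp [zero_pow hq0, add_self hn hF]
      · rw [Ne, hπ (μ := 1) (a := 0) (b := p.1.2) (ρ := 1) (by rw [hel1, ha, one_smul, cm_one])]
        simp [hb]
    have hfix : ∀ b : (trMap hn hF).ker, (b : F) ^ (2 ^ n) + b = (0 : F) ^ (2 ^ n + 1) := fun b => by
      rw [zero_pow (Nat.succ_ne_zero _), (mem_tr_ker hn hF _).1 b.2, add_self hn hF]
    let B := {b : (trMap hn hF).ker // b ≠ 0}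
    have hB : Nat.card B = 2 ^ n - 1 := by
      have e : B ≃ {b : (trMap hn hF).ker // ¬ b = 0} := Equiv.refl _
      rw [Nat.card_congr e, Nat.card_eq_fintype_card, Fintype.card_subtype_compl,
        ← Nat.card_eq_fintype_card, hker, Fintype.card_subtype_eq]
    rw [← hB]
    refine (Nat.card_congr (Equiv.ofBijective (fun b : B => (⟨Ψ (1, ⟨(0, (b.1 : F)), hfix b.1⟩),
      hinv _ rfl fun e => b.2 (Subtype.ext e)⟩ : {x : C // orderOf x = 2})) ⟨?_, ?_⟩)).symm
    · intro b b' e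
      have e' := congrArg (fun z : {x : C // orderOf x = 2} => (Ψ.symm z.1).2.1.2) e
      simp only [Equiv.symm_apply_apply] at e'
      exact Subtype.ext (Subtype.ext e')
    · rintro ⟨x, hx⟩
      obtain ⟨⟨μ, ⟨⟨a, b⟩, hp⟩⟩, rfl⟩ := Ψ.surjective x
      obtain ⟨rfl, ha⟩ := horder μ _ hx
      simp only at ha
      subst ha
      have hb : b ≠ 0 := fun e => by
        rw [hone ⟨(0, b), hp⟩ (by simp [e]), orderOf_one] at hx; omega
      refine ⟨⟨⟨b, (mem_tr_ker hn hF b).2 ?_⟩, fun e => hb (congrArg Subtype.val e)⟩, rfl⟩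
      rw [zero_pow (Nat.succ_ne_zero _)] at hp
      linear_combination hp - b * t2

end Cfsg.Lib.PGU3Even
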