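import Cfsg.Agent.Lib.U3Even.Sylow
import Cfsg.Agent.Lib.Linear.UnitaryCenter
import Cfsg.Prelude.Def_LieClassical

/-!
# `GU(3, q)`, `q` even, in the coordinates of the anti-diagonal form
-/

set_option autoImplicit false
set_option linter.style.haveILetI false
set_option linter.unusedSectionVars false

namespace Cfsg.Lib.PGU3Even

open Matrix Cfsg.Lib.Spec.UThree Cfsg.Lib.U3Even

variable {F : Type*} [Field F] [Fintype F] {n : ℕ}

/-- A chart: an injective realisation of `GU(3, q)` as the isometry group of the anti-diagonal form. -/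
structure Chart (F : Type*) [Field F] [Fintype F] (n : ℕ) where
  /-- the realisation -/
  c : Cfsg.GU 3 F (2 ^ n) →* Matrix (Fin 3) (Fin 3) F
  inj : Function.Injective c
  form : ∀ g, (c g)ᵀ * antiDiag F * (c g).map (· ^ (2 ^ n)) = antiDiag F
  exists_of : ∀ M : Matrix (Fin 3) (Fin 3) F,
    Mᵀ * antiDiag F * M.map (· ^ (2 ^ n)) = antiDiag F → ∃ g, c g = M
  center : ∀ g, g ∈ Subgroup.center (Cfsg.GU 3 F (2 ^ n)) ↔ ∃ k : F, c g = Matrix.scalar (Fin 3) k

theorem gu_form {q : ℕ} (hq : q ≠ 0) (g : Cfsg.GU 3 F q) :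
    ((g : GL (Fin 3) F) : Matrix (Fin 3) (Fin 3) F)ᵀ *
      ((g : GL (Fin 3) F) : Matrix (Fin 3) (Fin 3) F).map (· ^ q) = 1 := by
  ext i j
  have h := Cfsg.Lib.Linear.Herm.mem_GU.1 g.2 (Pi.single i 1) (Pi.single j 1)
  simp only [Cfsg.hermForm, Matrix.mulVec_single_one, Matrix.col_apply] at h
  simp only [Matrix.mul_apply, Matrix.transpose_apply, Matrix.map_apply]
  rw [h]
  fin_cases i <;> fin_cases j <;> simp [Fin.sum_univ_three, zero_pow hq]

theorem exists_chart (hn : 1 ≤ n) (hF : Fintype.card F = (2 ^ n) ^ 2) : Nonempty (Chart F n) := by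
  classical
  have hq0 : 2 ^ n ≠ 0 := by positivity
  have t2 := two_eq_zero hn hF
  obtain ⟨θ, hθ⟩ := exists_tr hn hF (show (1 : F) ^ (2 ^ n) = 1 from one_pow _)
  let P : Matrix (Fin 3) (Fin 3) F := !![1, 0, θ; 1, 0, θ + 1; 0, 1, 0]
  let P' : Matrix (Fin 3) (Fin 3) F := !![1 + θ, θ, 0; 0, 0, 1; 1, 1, 0]
  have h1 : P * P' = 1 := by
    ext i j
    fin_cases i <;> fin_cases j <;> simp [P, P', Matrix.mul_apply, Fin.sum_univ_three] <;> grind
  have h1' : P' * P = 1 := mul_eq_one_comm.1 h1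
  have hθ1 : (θ + 1) ^ (2 ^ n) = θ ^ (2 ^ n) + 1 := by rw [frob_add hn hF, one_pow]
  have hform : Pᵀ * P.map (· ^ (2 ^ n)) = antiDiag F := by
    ext i j
    fin_cases i <;> fin_cases j <;>
      simp [P, antiDiag, Matrix.mul_apply, Fin.sum_univ_three, hθ1, zero_pow hq0] <;> grind
  have hmap1 : (1 : Matrix (Fin 3) (Fin 3) F).map (· ^ (2 ^ n)) = 1 := by
    ext i j
    simp only [Matrix.map_apply, Matrix.one_apply]
    split_ifs <;> simp [zero_pow hq0]
  have e4 : P'ᵀ * antiDiag F * P'.map (· ^ (2 ^ n)) = 1 := by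
    rw [← hform, ← Matrix.mul_assoc, ← Matrix.transpose_mul, h1, Matrix.transpose_one, Matrix.one_mul,
      ← map_pow_mul hF, h1, hmap1]
  have hback : ∀ M : Matrix (Fin 3) (Fin 3) F, P * (P' * M * P) * P' = M := fun M => by
    calc P * (P' * M * P) * P' = (P * P') * M * (P * P') := by simp only [Matrix.mul_assoc]
      _ = M := by rw [h1, Matrix.one_mul, Matrix.mul_one]
  let mat : Cfsg.GU 3 F (2 ^ n) →* Matrix (Fin 3) (Fin 3) F :=
    (Units.coeHom _).comp (Cfsg.GU 3 F (2 ^ n)).subtype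
  let c : Cfsg.GU 3 F (2 ^ n) →* Matrix (Fin 3) (Fin 3) F :=
    { toFun := fun g => P' * mat g * P
      map_one' := by rw [map_one, Matrix.mul_one, h1']
      map_mul' := fun g h => by
        rw [map_mul]
        calc P' * (mat g * mat h) * P = P' * mat g * 1 * mat h * P := by
              simp only [Matrix.mul_one, Matrix.mul_assoc]
          _ = _ := by rw [← h1]; simp only [Matrix.mul_assoc] }
  have cinj : Function.Injective c := fun g h e => by
    have e' : mat g = mat h := by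
      rw [← hback (mat g), ← hback (mat h)]; exact congrArg (fun M => P * M * P') e
    exact Subtype.ext (Units.ext e')
  refine ⟨⟨c, cinj, fun g => ?_, fun M hM => ?_, fun g => ⟨fun hg => ?_, fun hg => ?_⟩⟩⟩
  · have hg : (mat g)ᵀ * (mat g).map (· ^ (2 ^ n)) = 1 := gu_form hq0 g
    show (P' * mat g * P)ᵀ * antiDiag F * (P' * mat g * P).map (· ^ (2 ^ n)) = antiDiag F
    calc (P' * mat g * P)ᵀ * antiDiag F * (P' * mat g * P).map (· ^ (2 ^ n))
        = Pᵀ * ((mat g)ᵀ * (P'ᵀ * antiDiag F * P'.map (· ^ (2 ^ n))) *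
            (mat g).map (· ^ (2 ^ n))) * P.map (· ^ (2 ^ n)) := by
          simp only [Matrix.transpose_mul, map_pow_mul hF, Matrix.mul_assoc]
      _ = antiDiag F := by rw [e4, Matrix.mul_one, hg, Matrix.mul_one, hform]
  · have hN : (P * M * P')ᵀ * (P * M * P').map (· ^ (2 ^ n)) = 1 := by
      calc (P * M * P')ᵀ * (P * M * P').map (· ^ (2 ^ n))
          = P'ᵀ * (Mᵀ * (Pᵀ * P.map (· ^ (2 ^ n))) * M.map (· ^ (2 ^ n))) * P'.map (· ^ (2 ^ n)) := by
            simp only [Matrix.transpose_mul, map_pow_mul hF, Matrix.mul_assoc]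
        _ = 1 := by rw [hform, hM, e4]
    have hdet : (P * M * P').det ≠ 0 := by
      intro e
      have := congrArg Matrix.det hN
      rw [Matrix.det_mul, Matrix.det_transpose, e, zero_mul, Matrix.det_one] at this
      exact zero_ne_one this
    refine ⟨⟨Matrix.GeneralLinearGroup.mkOfDetNeZero _ hdet, Cfsg.Lib.Linear.Herm.mem_GU.2 fun u v => ?_⟩, ?_⟩
    · show ((P * M * P') *ᵥ u) ⬝ᵥ (fun i => ((P * M * P') *ᵥ v) i ^ (2 ^ n)) = u ⬝ᵥ fun i => v i ^ (2 ^ n)
      have h : (fun i => ((P * M * P') *ᵥ v) i ^ (2 ^ n)) =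
          (P * M * P').map (· ^ (2 ^ n)) *ᵥ fun i => v i ^ (2 ^ n) := by
        funext i
        haveI := charP_two hn hF
        haveI : Fact (Nat.Prime 2) := ⟨Nat.prime_two⟩
        simp only [Matrix.mulVec, dotProduct, Matrix.map_apply]
        rw [sum_pow_char_pow]
        simp only [mul_pow]
      rw [h, dotProduct_comm, Matrix.dotProduct_mulVec, ← Matrix.mulVec_transpose, Matrix.mulVec_mulVec,
        hN, Matrix.one_mulVec, dotProduct_comm]
    · show P' * (P * M * P') * P = M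
      calc P' * (P * M * P') * P = (P' * P) * M * (P' * P) := by simp only [Matrix.mul_assoc]
        _ = M := by rw [h1', Matrix.one_mul, Matrix.mul_one]
  · obtain ⟨k, hk⟩ := Cfsg.Lib.Linear.Herm.exists_scalar hF (n := 3) (by norm_num) (mat g) fun B hB => by
      have h := congrArg mat (Subgroup.mem_center_iff.1 hg
        ⟨Matrix.SpecialLinearGroup.toGL B, Cfsg.Lib.Linear.Herm.mem_GU.2
          (Cfsg.Lib.Linear.Herm.mem_SU.1 hB)⟩)
      simpa [mat] using h
    refine ⟨k, ?_⟩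
    show P' * mat g * P = _
    rw [hk, Matrix.mul_assoc, (Matrix.scalar_commute k (Commute.all k) P).eq, ← Matrix.mul_assoc, h1',
      Matrix.one_mul]
  · obtain ⟨k, hk⟩ := hg
    exact Subgroup.mem_center_iff.2 fun h => cinj (by
      rw [map_mul, map_mul, hk, (Matrix.scalar_commute k (Commute.all k) (c h)).eq])

end Cfsg.Lib.PGU3Even
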