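import Cfsg.Agent.Lib.PGU3Even.Centralizer
import Cfsg.Agent.Lib.RankOneSuzuki.UnitaryModel

/-!
# Recognition of `PGU(3, q)` on its unital, `q` even

A faithful permutation group on a copy of the unital generated by the translations, the standard involution
and the diagonal maps is isomorphic to `PGU(3, q)`.
-/

set_option autoImplicit false
set_option linter.style.haveILetI false
set_option linter.unusedSectionVars false

namespace Cfsg.Lib.PGU3Even

open Matrix Cfsg.Lib.Spec.UThree Cfsg.Lib.U3Even Cfsg.Lib.RankOneSuzuki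

variable {F : Type*} [Field F] [Fintype F] {n : ℕ}

/-- The diagonal matrix acting as `(a, Z) ↦ (α a, α ^ (q + 1) Z)`. -/
def dg (q : ℕ) (α : F) : Matrix (Fin 3) (Fin 3) F := !![α ^ q, 0, 0; 0, α ^ q / α, 0; 0, 0, α⁻¹]

theorem dg_form (hn : 1 ≤ n) (hF : Fintype.card F = (2 ^ n) ^ 2) {α : F} (hα : α ≠ 0) :
    (dg (2 ^ n) α)ᵀ * antiDiag F * (dg (2 ^ n) α).map (· ^ (2 ^ n)) = antiDiag F := by
  have hq0 : 2 ^ n ≠ 0 := by positivity
  have hff := frob_frob hF α
  have hαq : α ^ (2 ^ n) ≠ 0 := pow_ne_zero _ hα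
  ext i j
  fin_cases i <;> fin_cases j <;>
    simp [dg, antiDiag, Matrix.mul_apply, Fin.sum_univ_three, zero_pow hq0, hff, div_pow, inv_pow, hα, hαq]

theorem antiDiag_form (hn : 1 ≤ n) :
    (antiDiag F)ᵀ * antiDiag F * (antiDiag F).map (· ^ (2 ^ n)) = antiDiag F := by
  have hq0 : 2 ^ n ≠ 0 := by positivity
  ext i j
  fin_cases i <;> fin_cases j <;>
    simp [antiDiag, Matrix.mul_apply, Fin.sum_univ_three, zero_pow hq0]

set_option maxHeartbeats 1000000 in
/-- Recognition of `PGU(3, q)` on its unital. -/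
theorem iso_pgu (hn : 2 ≤ n) (hF : Fintype.card F = (2 ^ n) ^ 2) {L X : Type*} [Group L] [MulAction L X]
    [FaithfulSMul L X] (θ : UPt F (2 ^ n) ≃ X) (u : ∀ c Y : F, Y ^ (2 ^ n) + Y = c ^ (2 ^ n + 1) → L)
    (τ : L) (δ : ∀ α : F, α ≠ 0 → L)
    (hu0 : ∀ c Y h, u c Y h • θ .inf = θ .inf)
    (hu : ∀ c Y h a Z (hZ : Z ^ (2 ^ n) + Z = a ^ (2 ^ n + 1)) (a' Z' : F) (h'),
      a' = a + c → Z' = Z + Y + c * a ^ (2 ^ n) → u c Y h • θ (.mk a Z hZ) = θ (.mk a' Z' h'))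
    (hδ0 : ∀ α hα, δ α hα • θ .inf = θ .inf)
    (hδ : ∀ α hα a Z (hZ : Z ^ (2 ^ n) + Z = a ^ (2 ^ n + 1)) (a' Z' : F) (h'),
      a' = α * a → Z' = α * α ^ (2 ^ n) * Z → δ α hα • θ (.mk a Z hZ) = θ (.mk a' Z' h'))
    (hτ0 : ∀ h, τ • θ .inf = θ (.mk 0 0 h))
    (hτ1 : ∀ h, τ • θ (.mk 0 0 h) = θ .inf)
    (hτ : ∀ a Z h (a' Z' : F) h', Z ≠ 0 → a' = a / Z ^ (2 ^ n) → Z' = 1 / Z →
      τ • θ (.mk a Z h) = θ (.mk a' Z' h'))
    (hgen : Subgroup.closure ({g | ∃ c Y h, u c Y h = g} ∪ {τ} ∪ {g | ∃ α hα, δ α hα = g}) = ⊤) :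
    Nonempty (L ≃* (Cfsg.GU 3 F (2 ^ n) ⧸ Subgroup.center (Cfsg.GU 3 F (2 ^ n)))) := by
  classical
  have hn1 : 1 ≤ n := by omega
  have hq0 : 2 ^ n ≠ 0 := by positivity
  have t2 := two_eq_zero hn1 hF
  have hff := frob_frob (n := n) hF
  have hfa := frob_add (n := n) hn1 hF
  have h00 : (0 : F) ^ (2 ^ n) + 0 = 0 ^ (2 ^ n + 1) := by simp [zero_pow hq0]
  obtain ⟨⟨c, cinj, cform, cex, ccen⟩⟩ := exists_chart hn1 hF
  let R : Subgroup (Cfsg.GU 3 F (2 ^ n) × L) :=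
    { carrier := {p | ∀ x, ∃ k : F, k ≠ 0 ∧ c p.1 *ᵥ UPt.vec x = k • UPt.vec (θ.symm (p.2 • θ x))}
      one_mem' := fun x => ⟨1, one_ne_zero, by simp⟩
      mul_mem' := by
        intro p p' hp hp' x
        obtain ⟨k, hk, e⟩ := hp' x
        obtain ⟨k', hk', e'⟩ := hp (θ.symm (p'.2 • θ x))
        refine ⟨k * k', mul_ne_zero hk hk', ?_⟩
        rw [θ.apply_symm_apply] at e'
        rw [Prod.fst_mul, map_mul, ← Matrix.mulVec_mulVec, e, Matrix.mulVec_smul, e',
          Prod.snd_mul, mul_smul p.2]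
        exact smul_smul _ _ _
      inv_mem' := by
        intro p hp x
        obtain ⟨k, hk, e⟩ := hp (θ.symm (p.2⁻¹ • θ x))
        refine ⟨k⁻¹, inv_ne_zero hk, ?_⟩
        rw [θ.apply_symm_apply, smul_inv_smul, θ.symm_apply_apply] at e
        have e' := congrArg (c p.1⁻¹ *ᵥ ·) e
        simp only [Matrix.mulVec_mulVec, ← map_mul, inv_mul_cancel, map_one, Matrix.one_mulVec,
          Matrix.mulVec_smul] at e'
        rw [Prod.fst_inv, Prod.snd_inv, e', smul_smul, inv_mul_cancel₀ hk, one_smul] }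
  have mkR : ∀ g l, (∀ x, ∃ k : F, k ≠ 0 ∧ ∃ y, l • θ x = θ y ∧ c g *ᵥ UPt.vec x = k • UPt.vec y) →
      (g, l) ∈ R := by
    intro g l h x
    obtain ⟨k, hk, y, hy, e⟩ := h x
    exact ⟨k, hk, by show _ = k • UPt.vec (θ.symm (l • θ x)); rw [hy, θ.symm_apply_apply, e]⟩
  -- translations
  have huR : ∀ a b h, ∃ g, c g = um (2 ^ n) a b ∧ (g, u a b h) ∈ R := by
    intro a b h
    obtain ⟨g, hg⟩ := cex (um (2 ^ n) a b) (um_form hn1 hF h)
    refine ⟨g, hg, mkR _ _ fun x => ?_⟩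
    rcases x.cases with rfl | ⟨A, Z, hZ, rfl⟩
    · refine ⟨1, one_ne_zero, _, hu0 a b h, ?_⟩
      rw [hg]; ext i; fin_cases i <;> simp [UPt.vec_inf, um, Matrix.vecHead]
    · have h' : (Z + b + a * A ^ (2 ^ n)) ^ (2 ^ n) + (Z + b + a * A ^ (2 ^ n)) = (A + a) ^ (2 ^ n + 1) := by
        rw [hfa, hfa, mul_pow, hff, pow_succ, hfa]
        rw [pow_succ] at h hZ
        linear_combination h + hZ
      refine ⟨1, one_ne_zero, _, hu a b h A Z hZ _ _ h' rfl rfl, ?_⟩
      rw [hg]; ext i; fin_cases i <;>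
        simp [UPt.vec_mk, um, Matrix.vecHead, Matrix.vecTail, hfa] <;> ring
  -- diagonal maps
  have hdR : ∀ α hα, ∃ g, c g = dg (2 ^ n) α ∧ (g, δ α hα) ∈ R := by
    intro α hα
    obtain ⟨g, hg⟩ := cex (dg (2 ^ n) α) (dg_form hn1 hF hα)
    refine ⟨g, hg, mkR _ _ fun x => ?_⟩
    rcases x.cases with rfl | ⟨A, Z, hZ, rfl⟩
    · refine ⟨α ^ (2 ^ n), pow_ne_zero _ hα, _, hδ0 α hα, ?_⟩
      rw [hg]; ext i; fin_cases i <;> simp [UPt.vec_inf, dg, Matrix.vecHead]
    · have h' : (α * α ^ (2 ^ n) * Z) ^ (2 ^ n) + α * α ^ (2 ^ n) * Z = (α * A) ^ (2 ^ n + 1) := by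
        rw [mul_pow, mul_pow, hff, pow_succ, mul_pow]
        rw [pow_succ] at hZ
        linear_combination α * α ^ (2 ^ n) * hZ
      refine ⟨α⁻¹, inv_ne_zero hα, _, hδ α hα A Z hZ _ _ h' rfl rfl, ?_⟩
      rw [hg]; ext i; fin_cases i <;>
        simp [UPt.vec_mk, dg, Matrix.vecHead, Matrix.vecTail, mul_pow] <;> field_simp
  -- the involution
  have hwR : ∃ g, c g = antiDiag F ∧ (g, τ) ∈ R := by
    obtain ⟨g, hg⟩ := cex (antiDiag F) (antiDiag_form hn1)
    refine ⟨g, hg, mkR _ _ fun x => ?_⟩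
    rcases x.cases with rfl | ⟨A, Z, hZ, rfl⟩
    · refine ⟨1, one_ne_zero, _, hτ0 h00, ?_⟩
      rw [hg]; ext i; fin_cases i <;>
        simp [UPt.vec_inf, UPt.vec_mk, antiDiag, zero_pow hq0, Matrix.vecHead]
    · by_cases hZ0 : Z = 0
      · subst hZ0
        have hA : A = 0 := eq_zero_of_pow_eq_zero (hZ.symm.trans (by simp [zero_pow hq0]))
        subst hA
        refine ⟨1, one_ne_zero, _, hτ1 hZ, ?_⟩
        rw [hg]; ext i; fin_cases i <;>
          simp [UPt.vec_inf, UPt.vec_mk, antiDiag, zero_pow hq0, Matrix.vecHead, Matrix.vecTail]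
      · have h' : (1 / Z) ^ (2 ^ n) + 1 / Z = (A / Z ^ (2 ^ n)) ^ (2 ^ n + 1) := by
          rw [pow_succ, div_pow, div_pow, hff, one_pow]
          rw [pow_succ] at hZ
          have hZq : Z ^ (2 ^ n) ≠ 0 := pow_ne_zero _ hZ0
          field_simp
          linear_combination hZ
        refine ⟨Z, hZ0, _, hτ A Z hZ _ _ h' hZ0 rfl rfl, ?_⟩
        rw [hg]; ext i; fin_cases i <;>
          simp [UPt.vec_mk, antiDiag, Matrix.vecHead, Matrix.vecTail, div_pow, hff, mul_div_cancel₀, hZ0]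
  -- every element of `L` has a matrix
  have hsurjL : ∀ l : L, ∃ g, (g, l) ∈ R := by
    intro l
    have hle : Subgroup.closure ({g | ∃ c Y h, u c Y h = g} ∪ {τ} ∪ {g | ∃ α hα, δ α hα = g}) ≤
        R.map (MonoidHom.snd _ _) := by
      rw [Subgroup.closure_le]
      rintro _ ((⟨a, b, h, rfl⟩ | e) | ⟨α, hα, rfl⟩)
      · obtain ⟨g, -, hg⟩ := huR a b h; exact ⟨_, hg, rfl⟩
      · obtain ⟨g, -, hg⟩ := hwR; exact ⟨_, hg, (Set.mem_singleton_iff.1 e).symm⟩
      · obtain ⟨g, -, hg⟩ := hdR α hα; exact ⟨_, hg, rfl⟩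
    obtain ⟨p, hp, rfl⟩ : l ∈ R.map (MonoidHom.snd _ _) := hle (hgen ▸ Subgroup.mem_top l)
    exact ⟨p.1, hp⟩
  -- scalars
  have hsurjS : ∀ g, g ∈ Subgroup.center (Cfsg.GU 3 F (2 ^ n)) → (g, (1 : L)) ∈ R := by
    intro g hg
    obtain ⟨k, hk⟩ := (ccen g).1 hg
    have hk0 : k ≠ 0 := fun e => by
      have := congrFun (congrFun (cform g) 1) 1
      rw [hk, e] at this
      simp [antiDiag] at this
    refine mkR _ _ fun x => ⟨k, hk0, x, one_smul _ _, ?_⟩
    rw [hk]; ext i; simp [Matrix.scalar_apply, Matrix.mulVec_diagonal]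
  let H := R.map (MonoidHom.fst (Cfsg.GU 3 F (2 ^ n)) L)
  have memH : ∀ {g l}, (g, l) ∈ R → g ∈ H := fun h => ⟨_, h, rfl⟩
  -- an element fixing both standard points is diagonal
  have hdiag : ∀ g (α γ : F), c g *ᵥ ![1, 0, 0] = α • ![1, 0, 0] → c g *ᵥ ![0, 0, 1] = γ • ![0, 0, 1] →
      g ∈ H := by
    intro g α γ ha hγ
    have e0 : ∀ i, c g i 0 = α * (![1, 0, 0] : Fin 3 → F) i := fun i => by
      simpa [Matrix.mulVec, dotProduct, Fin.sum_univ_three] using congrFun ha i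
    have e2 : ∀ i, c g i 2 = γ * (![0, 0, 1] : Fin 3 → F) i := fun i => by
      simpa [Matrix.mulVec, dotProduct, Fin.sum_univ_three] using congrFun hγ i
    have g00 : c g 0 0 = α := by simpa using e0 0
    have g10 : c g 1 0 = 0 := by simpa using e0 1
    have g20 : c g 2 0 = 0 := by simpa using e0 2
    have g02 : c g 0 2 = 0 := by simpa using e2 0
    have g12 : c g 1 2 = 0 := by simpa using e2 1
    have g22 : c g 2 2 = γ := by simpa using e2 2
    have hrow : ∀ i j, c g 0 i * c g 2 j ^ (2 ^ n) + c g 1 i * c g 1 j ^ (2 ^ n) +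
        c g 2 i * c g 0 j ^ (2 ^ n) = antiDiag F i j := fun i j => by
      have := congrFun (congrFun (cform g) i) j
      simp only [Matrix.mul_apply, Fin.sum_univ_three, Matrix.transpose_apply, Matrix.map_apply] at this
      rw [← this]
      simp [antiDiag]
      ring
    have r02 := hrow 0 2
    have r01 := hrow 0 1
    have r21 := hrow 2 1
    have r11 := hrow 1 1
    simp [g00, g10, g20, g02, g12, g22, antiDiag, zero_pow hq0] at r02 r01 r21
    have hα : α ≠ 0 := fun e => by rw [e] at r02; simp at r02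
    have hγ0 : γ ≠ 0 := fun e => by rw [e, zero_pow hq0] at r02; simp at r02
    have g21 : c g 2 1 = 0 := r01.resolve_left hα
    have g01 : c g 0 1 = 0 := r21.resolve_left hγ0
    obtain ⟨β, hβ⟩ : ∃ β, β = c g 1 1 := ⟨_, rfl⟩
    simp [g01, g21, ← hβ, antiDiag, zero_pow hq0] at r11
    have hβ0 : β ≠ 0 := fun e => by rw [e] at r11; simp at r11
    obtain ⟨x, hx⟩ : ∃ x, x = α / β := ⟨_, rfl⟩
    have hx0 : x ≠ 0 := hx ▸ div_ne_zero hα hβ0
    have hγα : γ * α ^ (2 ^ n) = 1 := by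
      have := congrArg (· ^ (2 ^ n)) r02
      simp only [mul_pow, hff, one_pow] at this
      linear_combination this
    obtain ⟨g₁, hg₁, hR⟩ := hdR x hx0
    have hz : g₁⁻¹ * g ∈ Subgroup.center (Cfsg.GU 3 F (2 ^ n)) := by
      rw [ccen]
      refine ⟨γ * x, ?_⟩
      have e : c g = c g₁ * Matrix.scalar (Fin 3) (γ * x) := by
        rw [hg₁]
        have hxq : x ^ (2 ^ n) * β ^ (2 ^ n) = α ^ (2 ^ n) := by rw [← mul_pow, hx, div_mul_cancel₀ _ hβ0]
        have hxb : x * β = α := by rw [hx, div_mul_cancel₀ _ hβ0]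
        have hγx : γ * x ^ (2 ^ n) = β := by
          refine mul_right_cancel₀ (pow_ne_zero (2 ^ n) hβ0) ?_
          linear_combination γ * hxq + hγα - r11
        ext i j
        fin_cases i <;> fin_cases j <;>
          simp [dg, g00, g10, g20, g02, g12, g22, g01, g21, ← hβ, Matrix.scalar_apply] <;> field_simp
        · linear_combination -hxb - x * hγx
        · linear_combination -hγx
      rw [map_mul, e, ← Matrix.mul_assoc, ← map_mul, inv_mul_cancel, map_one, Matrix.one_mul]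
    have := mul_mem (memH hR) (memH (hsurjS _ hz))
    rwa [mul_inv_cancel_left] at this
  -- every point is the image of the point at infinity
  have htrans : ∀ x, ∃ g l, (g, l) ∈ R ∧ l • θ .inf = θ x := by
    intro x
    rcases x.cases with rfl | ⟨A, Z, hZ, rfl⟩
    · exact ⟨1, 1, one_mem R, one_smul _ _⟩
    · obtain ⟨g₁, -, h1⟩ := huR A Z hZ
      obtain ⟨g₂, -, h2⟩ := hwR
      refine ⟨g₁ * g₂, u A Z hZ * τ, mul_mem h1 h2, ?_⟩
      rw [mul_smul, hτ0 h00]
      exact hu A Z hZ 0 0 h00 A Z hZ (by rw [zero_add]) (by rw [zero_pow hq0]; ring)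
  have hiso : ∀ g (i : Fin 3), antiDiag F i i = 0 →
      c g 0 i * c g 2 i ^ (2 ^ n) + c g 1 i * c g 1 i ^ (2 ^ n) + c g 2 i * c g 0 i ^ (2 ^ n) = 0 := by
    intro g i hi
    have := congrFun (congrFun (cform g) i) i
    rw [hi] at this
    rw [← this]
    simp [antiDiag, Matrix.mul_apply, Fin.sum_univ_three]
    ring
  have hne : ∀ g (i : Fin 3), (fun j => c g j i) ≠ (0 : Fin 3 → F) := by
    intro g i e
    have h := congrArg Matrix.det (cform g)
    rw [Matrix.det_mul, Matrix.det_mul, Matrix.det_transpose,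
      Matrix.det_eq_zero_of_column_eq_zero i fun j => congrFun e j] at h
    simp [antiDiag, Matrix.det_fin_three] at h
  have hcol0 : ∀ g, c g *ᵥ ![1, 0, 0] = fun j => c g j 0 := fun g => by
    funext j; simp [Matrix.mulVec, dotProduct, Fin.sum_univ_three]
  have hcol2 : ∀ g, c g *ᵥ ![0, 0, 1] = fun j => c g j 2 := fun g => by
    funext j; simp [Matrix.mulVec, dotProduct, Fin.sum_univ_three]
  -- every matrix is realised
  have hH : H = ⊤ := by
    refine eq_top_iff.2 fun g _ => ?_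
    obtain ⟨x, k, hk, hvx⟩ := UPt.exists_vec hn1 hF _ (hne g 0) (hiso g 0 (by simp [antiDiag]))
    obtain ⟨h, l, hR, hl⟩ := htrans x
    obtain ⟨k', hk', hh⟩ := hR .inf
    rw [show (h, l).2 • θ .inf = θ x from hl, θ.symm_apply_apply, UPt.vec_inf, hcol0 h] at hh
    obtain ⟨b, hb⟩ : ∃ b, b = h⁻¹ * g := ⟨_, rfl⟩
    have hb0 : c b *ᵥ ![1, 0, 0] = (k / k') • (![1, 0, 0] : Fin 3 → F) := by
      have e3 := congrArg (c h⁻¹ *ᵥ ·) ((hcol0 h).trans hh)
      simp only [Matrix.mulVec_mulVec, ← map_mul, inv_mul_cancel, map_one, Matrix.one_mulVec,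
        Matrix.mulVec_smul] at e3
      rw [hb, map_mul, ← Matrix.mulVec_mulVec, hcol0 g, hvx, Matrix.mulVec_smul, e3, smul_smul,
        div_mul_cancel₀ k hk']
    have hb00 : ∀ i, c b i 0 = (k / k') * (![1, 0, 0] : Fin 3 → F) i := fun i => by
      simpa [Matrix.mulVec, dotProduct, Fin.sum_univ_three] using congrFun hb0 i
    obtain ⟨y, m, hm, hvy⟩ := UPt.exists_vec hn1 hF _ (hne b 2) (hiso b 2 (by simp [antiDiag]))
    rcases y.cases with rfl | ⟨A, Z, hZ, rfl⟩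
    · exfalso
      have e02 := congrFun hvy 1
      have e22 := congrFun hvy 2
      simp [UPt.vec_inf] at e02 e22
      have := congrFun (congrFun (cform b) 0) 2
      simp [antiDiag, Matrix.mul_apply, Fin.sum_univ_three, hb00, e02, e22, zero_pow hq0] at this
    obtain ⟨g₁, hg₁, hR₁⟩ := huR A Z hZ
    have hu2 : c g₁⁻¹ *ᵥ UPt.vec (UPt.mk A Z hZ) = ![0, 0, 1] := by
      have e : c g₁ *ᵥ ![0, 0, 1] = UPt.vec (UPt.mk A Z hZ) := by
        rw [hg₁]; funext i; fin_cases i <;> simp [UPt.vec_mk, um, Matrix.vecHead, Matrix.vecTail]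
      rw [← e, Matrix.mulVec_mulVec, ← map_mul, inv_mul_cancel, map_one, Matrix.one_mulVec]
    have hu0' : c g₁⁻¹ *ᵥ (![1, 0, 0] : Fin 3 → F) = ![1, 0, 0] := by
      have e : c g₁ *ᵥ ![1, 0, 0] = (![1, 0, 0] : Fin 3 → F) := by
        rw [hg₁]; funext i; fin_cases i <;> simp [um, Matrix.vecHead, Matrix.vecTail]
      conv_lhs => rw [← e]
      rw [Matrix.mulVec_mulVec, ← map_mul, inv_mul_cancel, map_one, Matrix.one_mulVec]
    have hd := hdiag (g₁⁻¹ * b) (k / k') m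
      (by rw [map_mul, ← Matrix.mulVec_mulVec, hb0, Matrix.mulVec_smul, hu0'])
      (by rw [map_mul, ← Matrix.mulVec_mulVec, hcol2 b, hvy, Matrix.mulVec_smul, hu2])
    have := mul_mem (memH hR) (mul_mem (memH hR₁) hd)
    rwa [mul_inv_cancel_left, hb, mul_inv_cancel_left] at this
  -- the kernel
  have hscal : ∀ g, (g, 1) ∈ R → g ∈ Subgroup.center (Cfsg.GU 3 F (2 ^ n)) := by
    intro g hg
    have hfix : ∀ x, ∃ k : F, k ≠ 0 ∧ c g *ᵥ UPt.vec x = k • UPt.vec x := fun x => by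
      simpa using hg x
    obtain ⟨α, -, h0⟩ := hfix .inf
    obtain ⟨γ, -, h2⟩ := hfix (.mk 0 0 h00)
    obtain ⟨Z₁, hZ₁⟩ := exists_point hn1 hF (1 : F)
    obtain ⟨y, -, h3⟩ := hfix (.mk 1 Z₁ hZ₁)
    have hZ₂ : (Z₁ + 1) ^ (2 ^ n) + (Z₁ + 1) = (1 : F) ^ (2 ^ n + 1) := by
      rw [hfa, one_pow]; rw [one_pow] at hZ₁ ⊢; linear_combination hZ₁ + t2
    obtain ⟨y', -, h4⟩ := hfix (.mk 1 (Z₁ + 1) hZ₂)
    obtain ⟨z, hz, hzz⟩ := Cfsg.Lib.Linear.Herm.exists_norm_one_sq_ne hF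
    obtain ⟨Z₃, hZ₃⟩ := exists_point hn1 hF z
    obtain ⟨y'', -, h5⟩ := hfix (.mk z Z₃ hZ₃)
    have E : ∀ {v : Fin 3 → F} {r : F}, c g *ᵥ v = r • v →
        ∀ i, c g i 0 * v 0 + c g i 1 * v 1 + c g i 2 * v 2 = r * v i := fun e i => by
      simpa [Matrix.mulVec, dotProduct, Fin.sum_univ_three] using congrFun e i
    have a0 := E h0; have a2 := E h2; have a3 := E h3; have a4 := E h4; have a5 := E h5
    simp [UPt.vec_inf, UPt.vec_mk, zero_pow hq0, Fin.forall_fin_succ] at a0 a2 a3 a4 a5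
    obtain ⟨c00, c10, c20⟩ := a0
    obtain ⟨c02, c12, c22⟩ := a2
    obtain ⟨r30, r31, r32⟩ := a3
    obtain ⟨r40, r41, r42⟩ := a4
    obtain ⟨r50, r51, r52⟩ := a5
    rw [c00, c02] at r30 r40 r50
    rw [c10, c12] at r31 r41 r51
    rw [c20, c22] at r32 r42 r52
    simp only [zero_mul, zero_add, add_zero] at r30 r40 r31 r41 r32 r42 r51 r52
    have hyy : y' = y := r41.symm.trans r31
    rw [hyy] at r40
    have hαy : α = y := by linear_combination r40 - r30
    have hc01 : c g 0 1 = 0 := by rw [hαy] at r30; linear_combination r30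
    have hz0 : z ^ (2 ^ n) ≠ 0 := pow_ne_zero _ fun e => by simp [e] at hz
    have hz1 : z ^ (2 ^ n) ≠ 1 := fun e => by
      have := hff z; rw [e, one_pow] at this; subst this; simp at hzz
    have hy'' : y'' = y := by
      refine mul_right_cancel₀ hz0 ?_
      rw [← r31]; linear_combination -r51
    rw [hy''] at r52
    have hc21 : c g 2 1 = 0 := by
      refine (mul_eq_zero.1 (?_ : c g 2 1 * (z ^ (2 ^ n) - 1) = 0)).resolve_right (sub_ne_zero.2 hz1)
      linear_combination r52 - r32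
    have hγy : γ = y := by rw [hc21] at r32; linear_combination r32
    rw [ccen]
    refine ⟨y, ?_⟩
    ext i j
    fin_cases i <;> fin_cases j <;>
      simp [c00, c10, c20, c02, c12, c22, hc01, hc21, hαy, hγy, r31]
  -- `L` is determined by the matrix
  have huniq : ∀ g l, (g, l) ∈ R → g = 1 → l = 1 := by
    rintro g l hR rfl
    refine FaithfulSMul.eq_of_smul_eq_smul (α := X) fun x => ?_
    obtain ⟨k, hk, e⟩ := hR (θ.symm x)
    simp only [map_one, Matrix.one_mulVec, θ.apply_symm_apply] at e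
    rw [one_smul]
    exact (θ.symm.injective (UPt.vec_inj hF hk e)).symm
  have hex : ∀ g, ∃ l, (g, l) ∈ R := fun g => by
    obtain ⟨p, hp, rfl⟩ : g ∈ H := hH ▸ Subgroup.mem_top g
    exact ⟨p.2, hp⟩
  choose φ hφ using hex
  have huniq' : ∀ g l, (g, l) ∈ R → φ g = l := fun g l hR =>
    mul_inv_eq_one.1 (huniq _ _ (mul_mem (hφ g) (inv_mem hR)) (mul_inv_cancel g))
  let Φ : Cfsg.GU 3 F (2 ^ n) →* L :=
    { toFun := φ
      map_one' := huniq' 1 1 (one_mem R)
      map_mul' := fun g g' => huniq' _ _ (mul_mem (hφ g) (hφ g')) }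
  have hker : Φ.ker = Subgroup.center (Cfsg.GU 3 F (2 ^ n)) := by
    ext g
    rw [MonoidHom.mem_ker]
    refine ⟨fun e => hscal g ?_, fun hg => huniq' g 1 (hsurjS g hg)⟩
    have := hφ g
    rwa [show φ g = 1 from e] at this
  have hsurj : Function.Surjective Φ := fun l => (hsurjL l).imp fun g hg => huniq' g l hg
  exact ⟨((QuotientGroup.quotientMulEquivOfEq hker.symm).trans
    (QuotientGroup.quotientKerEquivOfSurjective Φ hsurj)).symm⟩

end Cfsg.Lib.PGU3Even
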