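import Cfsg.Agent.Lib.RankOneSuzuki.UnitaryMain
import Cfsg.Agent.Lib.PGU3Even.Recognition

/-!
# A rank-one group of unitary type with the full torus is `PGU(3, q)`
-/

set_option autoImplicit false
set_option linter.style.haveILetI false
set_option linter.unusedSectionVars false

namespace Cfsg.Lib.PGU3Even

open Cfsg Cfsg.Lib.RankOneSuzuki Cfsg.Lib.Linear.RankOne

universe u v

/-- `PGU(3, q)` does not depend on the copy of the field. -/
theorem pgu_congr {K L : Type*} [Field K] [Field L] (σ : K ≃+* L) (q : ℕ) :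
    Nonempty ((Cfsg.GU 3 K q ⧸ Subgroup.center (Cfsg.GU 3 K q)) ≃*
      (Cfsg.GU 3 L q ⧸ Subgroup.center (Cfsg.GU 3 L q))) := by
  let e : GL (Fin 3) K ≃* GL (Fin 3) L := Units.mapEquiv σ.mapMatrix.toMulEquiv
  have key : ∀ (g : GL (Fin 3) K), g ∈ Cfsg.GU 3 K q → e g ∈ Cfsg.GU 3 L q := by
    intro g hg
    refine Cfsg.Lib.Linear.Herm.mem_GU.2 fun u v => ?_
    have h := congrArg σ (Cfsg.Lib.Linear.Herm.mem_GU.1 hg (fun i => σ.symm (u i)) (fun i => σ.symm (v i)))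
    simpa [e, Cfsg.hermForm, Matrix.mulVec, dotProduct, map_sum, map_mul, map_pow] using h
  have key' : ∀ (g : GL (Fin 3) K), e g ∈ Cfsg.GU 3 L q → g ∈ Cfsg.GU 3 K q := by
    intro g hg
    refine Cfsg.Lib.Linear.Herm.mem_GU.2 fun u v => σ.injective ?_
    have h := Cfsg.Lib.Linear.Herm.mem_GU.1 hg (fun i => σ (u i)) (fun i => σ (v i))
    simpa [e, Cfsg.hermForm, Matrix.mulVec, dotProduct, map_sum, map_mul, map_pow] using h
  let e' : Cfsg.GU 3 K q ≃* Cfsg.GU 3 L q :=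
    (e.subgroupMap (Cfsg.GU 3 K q)).trans (MulEquiv.subgroupCongr (by
      ext g
      constructor
      · rintro ⟨g', hg', rfl⟩; exact key g' hg'
      · intro hg
        exact ⟨e.symm g, key' _ (by rwa [MulEquiv.apply_symm_apply]), e.apply_symm_apply g⟩))
  refine ⟨QuotientGroup.congr _ _ e' ?_⟩
  ext g
  constructor
  · rintro ⟨g', hg', rfl⟩
    refine Subgroup.mem_center_iff.2 fun x => ?_
    obtain ⟨x', rfl⟩ := e'.surjective x
    show e' x' * e' g' = e' g' * e' x'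
    rw [← map_mul, ← map_mul, Subgroup.mem_center_iff.1 hg' x']
  · intro hg
    obtain ⟨g', rfl⟩ := e'.surjective g
    refine ⟨g', Subgroup.mem_center_iff.2 fun x => e'.injective ?_, rfl⟩
    rw [map_mul, map_mul]
    exact Subgroup.mem_center_iff.1 hg (e' x)

section Scalar

variable {G : Type u} {Ω : Type v} [Group G] [MulAction G Ω] [Finite G] [FaithfulSMul G Ω] {a : Ω} {t : G}
  {Q : Subgroup G} {F : Type} [Field F] [Fintype F] [CharP F 2] {U : UData a t Q F}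
  {L : Type} [Field L] [Fintype L] (S : Frame U L)

/-- An element of the torus commuting with the inverted elements and with `w`, fixing the involutions, acts
on `Q` by a scalar of norm one. -/
theorem scalar_of_cent (hσ : ∀ x, S.co.σ x = S.plane.J x) {y : G} (hy : y ∈ Dd a t)
    (hk : ∀ j ∈ Kk a t, y * j = j * y) (hw : y * S.w = S.w * y) (hZc : ∀ z ∈ Zz G a, y * z = z * y) :
    ∃ ε : L, ε * S.plane.J ε = 1 ∧
      ∀ x ∈ Q, S.co.A (y * x * y⁻¹) = ε * S.co.A x ∧ S.co.Z (y * x * y⁻¹) = S.co.Z x := by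
  have hst := U.hyp.setup
  have t2 : (2 : L) = 0 := S.plane.two
  have hJJ : ∀ x, S.plane.J (S.plane.J x) = x := S.JJ
  have hcQ : ∀ x ∈ Q, y * x * y⁻¹ ∈ Q := hst.conj_mem y hy.1
  have hfix : ∀ z ∈ Zz G a, y * z * y⁻¹ = z := fun z hz => by rw [hZc z hz, mul_inv_cancel_right]
  have hzQ : ∀ z ∈ Zz G a, z ∈ Q := fun z hz => U.hyp.Zz_le hz
  have coc0 : ∀ α, coc S.plane.J S.co.σ S.co.c α 0 = 0 := fun α => by simp [coc, trJ]
  have coc0' : ∀ α, coc S.plane.J S.co.σ S.co.c 0 α = 0 := fun α => by simp [coc, trJ]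
  -- the map on the first coordinate
  obtain ⟨f, hf⟩ : ∃ f : L → L, f = fun α => S.co.A (y * S.rep α * y⁻¹) := ⟨_, rfl⟩
  obtain ⟨g, hg⟩ : ∃ g : L → L, g = fun α => S.co.Z (y * S.rep α * y⁻¹) + S.co.Z (S.rep α) := ⟨_, rfl⟩
  have hsplit : ∀ x ∈ Q, S.co.A (y * x * y⁻¹) = f (S.co.A x) ∧
      S.co.Z (y * x * y⁻¹) + S.co.Z x = g (S.co.A x) := by
    intro x hx
    obtain ⟨hr, hrA, hrZ⟩ := S.rep_spec (S.co.A x)
    obtain ⟨z, hzdef⟩ : ∃ z, z = (S.rep (S.co.A x))⁻¹ * x := ⟨_, rfl⟩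
    have hzq : z ∈ Q := hzdef ▸ mul_mem (inv_mem hr) hx
    have hxe : x = S.rep (S.co.A x) * z := by rw [hzdef, mul_inv_cancel_left]
    have hA0 : S.co.A z = 0 := by
      have := S.co.A_mul _ hr z hzq
      rw [← hxe, hrA] at this
      linear_combination -this
    have hzZ := (S.co.A_ker z hzq).1 hA0
    have hc : y * x * y⁻¹ = y * S.rep (S.co.A x) * y⁻¹ * z := by
      conv_lhs => rw [hxe, show y * (S.rep (S.co.A x) * z) * y⁻¹ =
        y * S.rep (S.co.A x) * y⁻¹ * (y * z * y⁻¹) by group, hfix z hzZ]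
    constructor
    · rw [hc, S.co.A_mul _ (hcQ _ hr) z hzq, hA0, add_zero, hf]
    · conv_lhs => arg 2; rw [hxe]
      rw [hc, S.co.Z_mul _ (hcQ _ hr) z hzq, S.co.Z_mul _ hr z hzq, hA0, coc0, coc0, hg]
      linear_combination S.co.Z z * t2
  have hfadd : ∀ α β, f (α + β) = f α + f β := by
    intro α β
    obtain ⟨hr, hrA, -⟩ := S.rep_spec α
    obtain ⟨hr', hrA', -⟩ := S.rep_spec β
    have h := (hsplit _ (mul_mem hr hr')).1
    rw [show y * (S.rep α * S.rep β) * y⁻¹ = y * S.rep α * y⁻¹ * (y * S.rep β * y⁻¹) by group,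
      S.co.A_mul _ (hcQ _ hr) _ (hcQ _ hr'), S.co.A_mul _ hr _ hr', hrA, hrA', (hsplit _ hr).1,
      (hsplit _ hr').1, hrA, hrA'] at h
    exact h.symm
  have hfω : ∀ α, f (S.co.ω * α) = S.co.ω * f α := by
    intro α
    obtain ⟨hr, hrA, -⟩ := S.rep_spec α
    obtain ⟨hr1, -⟩ := S.co.conj_w _ hr
    have hwQ : S.w * S.rep α * S.w⁻¹ ∈ Q := hst.conj_mem _ S.w_mem.1.1.1 _ hr
    have h := (hsplit _ hwQ).1
    rw [show y * (S.w * S.rep α * S.w⁻¹) * y⁻¹ = (y * S.w) * S.rep α * (y * S.w)⁻¹ by group, hw,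
      show S.w * y * S.rep α * (S.w * y)⁻¹ = S.w * (y * S.rep α * y⁻¹) * S.w⁻¹ by group,
      (S.co.conj_w _ (hcQ _ hr)).1, hr1, hrA, (hsplit _ hr).1, hrA] at h
    exact h.symm
  have hfreal : ∀ lam α, S.plane.J lam = lam → f (lam * α) = lam * f α := by
    intro lam α hl
    by_cases hl0 : lam = 0
    · have h0 : f 0 = 0 := by linear_combination -(hfadd 0 0) + (by simp : f (0 + 0) - f 0 = 0)
      rw [hl0, zero_mul, zero_mul, h0]
    obtain ⟨r, hr0, -, hconj⟩ := S.co.conj_real lam hl hl0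
    obtain ⟨hr, hrA, -⟩ := S.rep_spec α
    have hkQ : U.C.k r * S.rep α * (U.C.k r)⁻¹ ∈ Q :=
      hst.conj_mem _ (U.hyp.Kk_le (U.C.k_mem r hr0)).1 _ hr
    have h := (hsplit _ hkQ).1
    have hc := hk _ (U.C.k_mem r hr0)
    rw [show y * (U.C.k r * S.rep α * (U.C.k r)⁻¹) * y⁻¹ = (y * U.C.k r) * S.rep α * (y * U.C.k r)⁻¹ by group,
      hc, show U.C.k r * y * S.rep α * (U.C.k r * y)⁻¹ = U.C.k r * (y * S.rep α * y⁻¹) * (U.C.k r)⁻¹ by group,
      (hconj _ (hcQ _ hr)).1, (hconj _ hr).1, hrA, (hsplit _ hr).1, hrA] at h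
    exact h.symm
  obtain ⟨ω, hωdef⟩ : ∃ ω, ω = S.co.ω := ⟨_, rfl⟩
  rw [← hωdef] at hfω
  have hωJ : ω + S.plane.J ω ≠ 0 := by
    intro e
    have e' : S.plane.J ω = ω := by linear_combination e - ω * t2
    have := S.co.ω_J
    rw [← hωdef, e'] at this
    refine S.co.ω_ne ?_
    rw [← hωdef]
    rcases mul_self_eq_one_iff.1 this with h | h
    · exact h
    · rw [h]; linear_combination -t2
  have hflin : ∀ α, f α = α * f 1 := by
    intro α
    obtain ⟨r₂, hr₂⟩ : ∃ r, r = (α + S.plane.J α) / (ω + S.plane.J ω) := ⟨_, rfl⟩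
    obtain ⟨r₁, hr₁⟩ : ∃ r, r = α + r₂ * ω := ⟨_, rfl⟩
    have h2 : r₂ * (ω + S.plane.J ω) = α + S.plane.J α := by rw [hr₂, div_mul_cancel₀ _ hωJ]
    have hJ2 : S.plane.J r₂ = r₂ := by
      rw [hr₂, map_div₀, map_add, map_add, hJJ, hJJ, add_comm (S.plane.J α), add_comm (S.plane.J ω)]
    have hJ1 : S.plane.J r₁ = r₁ := by
      rw [hr₁, map_add, map_mul, hJ2]
      linear_combination h2 + (S.plane.J α - r₂ * ω) * t2
    have hα : α = r₁ * 1 + r₂ * (ω * 1) := by rw [hr₁]; linear_combination -(r₂ * ω) * t2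
    conv_lhs => rw [hα, hfadd, hfreal _ _ hJ1, hfreal _ _ hJ2, hfω]
    conv_rhs => rw [hα]
    ring
  obtain ⟨ε, hε⟩ : ∃ ε, ε = f 1 := ⟨_, rfl⟩
  obtain ⟨γ, hγ⟩ : ∃ γ, γ = S.co.c + S.plane.J S.co.c := ⟨_, rfl⟩
  have hγ0 : γ ≠ 0 := fun e => S.co.f_ne 1 one_ne_zero (by
    rw [quadF, trJ, hσ, mul_one, map_one, mul_one, ← hγ, e])
  have hεn : ε * S.plane.J ε = 1 := by
    obtain ⟨hr, hrA, hrZ⟩ := S.rep_spec 1
    have hsqA : S.co.A (S.rep 1 * S.rep 1) = 0 := by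
      rw [S.co.A_mul _ hr _ hr, hrA]; linear_combination t2
    have hsq := hfix _ ((S.co.A_ker _ (mul_mem hr hr)).1 hsqA)
    have h := congrArg S.co.Z hsq
    rw [show y * (S.rep 1 * S.rep 1) * y⁻¹ = y * S.rep 1 * y⁻¹ * (y * S.rep 1 * y⁻¹) by group,
      S.co.Z_mul _ (hcQ _ hr) _ (hcQ _ hr), S.co.Z_mul _ hr _ hr, (hsplit _ hr).1, hrA, ← hε, hrZ] at h
    simp only [coc, trJ, hσ, map_mul, map_one, hJJ, mul_one] at h
    rw [hγ] at hγ0
    refine mul_left_cancel₀ hγ0 ?_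
    linear_combination h - S.co.Z (y * S.rep 1 * y⁻¹) * t2
  have hgadd : ∀ α β, g (α + β) = g α + g β := by
    intro α β
    obtain ⟨hr, hrA, -⟩ := S.rep_spec α
    obtain ⟨hr', hrA', -⟩ := S.rep_spec β
    have h := (hsplit _ (mul_mem hr hr')).2
    rw [show y * (S.rep α * S.rep β) * y⁻¹ = y * S.rep α * y⁻¹ * (y * S.rep β * y⁻¹) by group,
      S.co.Z_mul _ (hcQ _ hr) _ (hcQ _ hr'), S.co.Z_mul _ hr _ hr', S.co.A_mul _ hr _ hr', (hsplit _ hr).1,
      (hsplit _ hr').1, hrA, hrA', hflin α, hflin β, ← hε] at h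
    have h1 := (hsplit _ hr).2
    have h2 := (hsplit _ hr').2
    rw [hrA] at h1
    rw [hrA'] at h2
    simp only [coc, trJ, hσ, map_mul, hJJ] at h
    linear_combination -h + h1 + h2 +
      (S.co.c * α * S.plane.J β + S.plane.J S.co.c * S.plane.J α * β) * hεn +
      (S.co.c * α * S.plane.J β + S.plane.J S.co.c * S.plane.J α * β) * t2
  have hgω : ∀ α, g (ω * α) = g α := by
    intro α
    obtain ⟨hr, hrA, -⟩ := S.rep_spec α
    have hwQ : S.w * S.rep α * S.w⁻¹ ∈ Q := hst.conj_mem _ S.w_mem.1.1.1 _ hr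
    have h := (hsplit _ hwQ).2
    rw [show y * (S.w * S.rep α * S.w⁻¹) * y⁻¹ = (y * S.w) * S.rep α * (y * S.w)⁻¹ by group, hw,
      show S.w * y * S.rep α * (S.w * y)⁻¹ = S.w * (y * S.rep α * y⁻¹) * S.w⁻¹ by group,
      (S.co.conj_w _ (hcQ _ hr)).2, (S.co.conj_w _ hr).2, (S.co.conj_w _ hr).1, (hsplit _ hr).2, hrA,
      ← hωdef] at h
    exact h.symm
  have hg0 : ∀ α, g α = 0 := by
    intro α
    have hω1 : ω + 1 ≠ 0 := fun e => S.co.ω_ne (hωdef ▸ by linear_combination e - t2)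
    have h : g (ω * (α / (ω + 1)) + α / (ω + 1)) = 0 := by
      rw [hgadd, hgω]; linear_combination g (α / (ω + 1)) * t2
    rwa [show ω * (α / (ω + 1)) + α / (ω + 1) = α by field_simp] at h
  refine ⟨ε, hεn, fun x hx => ⟨by rw [(hsplit x hx).1, hflin, ← hε, mul_comm], ?_⟩⟩
  have := (hsplit x hx).2
  rw [hg0] at this
  linear_combination this - S.co.Z x * t2

end Scalar

/-- A rank-one group with a torus of order `q + 1` centralising the involutions is `PGU(3, q)`. -/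
theorem iso_of_hyp {G : Type u} {Ω : Type v} [Group G] [MulAction G Ω] [Finite G] [FaithfulSMul G Ω]
    {a : Ω} {t : G} {Q : Subgroup G} {n : ℕ} (hn : 1 ≤ n) (h : Hyp G Ω a t Q) (hQ : IsPGroup 2 Q)
    (hZ : Nat.card (Zz G a) = 2 ^ n) (W : Subgroup G) (hWc : Nat.card W = 2 ^ n + 1) (hWle : W ≤ Ww a t)
    (hWab : ∀ x ∈ W, ∀ y ∈ W, x * y = y * x) (hWz : ∀ x ∈ W, ∀ z ∈ Zz G a, x * z = z * x)
    (hdec : ∀ g ∈ Dd a t, ∃ y ∈ W, ∃ j ∈ Cfsg.invertedBy (Dd a t) t, g = y * j)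
    {K : Type*} [Field K] [Fintype K] (hK : Fintype.card K = (2 ^ n) ^ 2) :
    Nonempty (G ≃* (Cfsg.GU 3 K (2 ^ n) ⧸ Subgroup.center (Cfsg.GU 3 K (2 ^ n)))) := by
  classical
  have hW0 : Ww a t ≠ ⊥ := fun e => by
    have := Subgroup.card_le_of_le hWle
    rw [e, Subgroup.card_bot, hWc] at this
    have := Nat.one_le_two_pow (n := n)
    omega
  obtain ⟨F, _, _, _, ⟨U⟩⟩ := h.exists_udata hQ hW0
  obtain ⟨L, _, _, ⟨S₀⟩⟩ := U.exists_frame
  obtain ⟨S, hχ⟩ : ∃ S : Frame U L, S.plane.ρ = S.co.ω := by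
    rcases S₀.idHyp.χ_eq with e | e
    · exact ⟨S₀, e⟩
    · exact ⟨S₀.flip, by show S₀.plane.J S₀.plane.ρ = S₀.co.ω; rw [e, S₀.JJ]⟩
  obtain rfl : n = U.n := Nat.pow_right_injective le_rfl (hZ.symm.trans U.card_Zz)
  have hWw : W = Ww a t := Subgroup.eq_of_le_of_card_ge hWle (by
    rw [hWc, ← hZ]; exact Nat.le_of_dvd (by omega) (h.card_Q_cube hQ hW0).2)
  have hL : Fintype.card L = (2 ^ U.n) ^ 2 := by rw [S.plane.card, U.card]
  have hJ : ∀ x, S.plane.J x = x ^ (2 ^ U.n) := fun x => by rw [S.plane.J_eq, U.card]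
  have hσ := S.idHyp.σ_eq hχ hL hJ
  have hst := U.hyp.setup
  obtain ⟨M⟩ := S.exists_unital hχ
  have hscal : ∀ y ∈ W, ∃ ε : L, ε * S.plane.J ε = 1 ∧
      ∀ x ∈ Q, S.co.A (y * x * y⁻¹) = ε * S.co.A x ∧ S.co.Z (y * x * y⁻¹) = S.co.Z x := fun y hy =>
    scalar_of_cent S hσ (hWle hy).1.1
      (fun j hj => (Subgroup.mem_centralizer_iff.1 (hWle hy).2 j (h.coe_Kk ▸ hj)).symm)
      (hWab y hy S.w (hWw ▸ S.w_mem)) (hWz y hy)
  choose ε hεn hεc using hscal
  -- every norm-one scalar occurs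
  have hnorm : ∀ e : L, e * S.plane.J e = 1 → ∃ y hy, ε y hy = e := by
    have h1 : ∀ y hy, ε y hy ^ (2 ^ U.n + 1) = 1 := fun y hy => by
      rw [pow_succ', ← hJ]; exact hεn y hy
    let φ : W → normOne L (2 ^ U.n) := fun y =>
      ⟨Units.mk0 (ε y y.2) fun e => by
        have := hεn y y.2; rw [e, zero_mul] at this; exact zero_ne_one this, mem_normOne.2 (h1 y y.2)⟩
    have φi : Function.Injective φ := by
      intro y y' e
      have e' : ε y y.2 = ε y' y'.2 := congrArg (fun z : normOne L (2 ^ U.n) => ((z : Lˣ) : L)) e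
      refine Subtype.ext (inv_mul_eq_one.1 ?_).symm
      refine h.eq_one_of_centralizes (mul_mem (inv_mem (hWle y'.2).1.1) (hWle y.2).1.1) fun x hx => ?_
      have e1 : (y' : G) * x * (y' : G)⁻¹ = (y : G) * x * (y : G)⁻¹ := S.co_uniq (hst.conj_mem _ (hWle y'.2).1.1.1 _ hx)
        (hst.conj_mem _ (hWle y.2).1.1.1 _ hx)
        (by rw [(hεc _ y'.2 x hx).1, (hεc _ y.2 x hx).1, e'])
        (by rw [(hεc _ y'.2 x hx).2, (hεc _ y.2 x hx).2])
      calc (y' : G)⁻¹ * y * x = (y' : G)⁻¹ * ((y : G) * x * (y : G)⁻¹) * y := by group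
        _ = _ := by rw [← e1]; group
    have φs : Function.Surjective φ := ((Nat.bijective_iff_injective_and_card φ).2
      ⟨φi, by rw [hWc, card_normOne hn hL]⟩).2
    intro e he
    obtain ⟨y, hy⟩ := φs ⟨Units.mk0 e fun e0 => by rw [e0, zero_mul] at he; exact zero_ne_one he,
      mem_normOne.2 (by show e ^ (2 ^ U.n + 1) = 1; rw [pow_succ', ← hJ]; exact he)⟩
    exact ⟨y, y.2, congrArg (fun z : normOne L (2 ^ U.n) => ((z : Lˣ) : L)) hy⟩
  -- elements acting as diagonal maps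
  have hkr : ∀ r : F, r ≠ 0 → ∀ x ∈ Q, S.co.A (U.C.k r * x * (U.C.k r)⁻¹) = S.plane.j r * S.co.A x ∧
      S.co.Z (U.C.k r * x * (U.C.k r)⁻¹) = S.plane.j r * S.plane.j r * S.co.Z x := by
    intro r hr x hx
    have hl : S.plane.J (S.plane.j r) = S.plane.j r := S.plane.J_j r
    obtain ⟨r', hr', e, hc⟩ := S.co.conj_real _ hl ((map_ne_zero _).2 hr)
    rw [hσ, hl, ← map_mul] at e
    have hrr : r' = r := frobenius_inj F 2 (by
      simp only [frobenius_def, sq]; exact (S.plane.j.injective e).symm)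
    subst hrr
    obtain ⟨h1, h2⟩ := hc x hx
    exact ⟨h1, by rw [h2, map_mul]⟩
  have hdiag : ∀ α : L, α ≠ 0 → ∃ g ∈ Dd a t, ∀ x ∈ Q, S.co.A (g * x * g⁻¹) = α * S.co.A x ∧
      S.co.Z (g * x * g⁻¹) = α * S.plane.J α * S.co.Z x := by
    intro α hα
    haveI : Fact (Nat.Prime 2) := ⟨Nat.prime_two⟩
    obtain ⟨s, hs⟩ := S.plane.fixed (α * S.plane.J α) (by rw [map_mul, S.JJ, mul_comm])
    obtain ⟨r, hr⟩ := (Finite.injective_iff_bijective.1 (frobenius_inj F 2)).2 s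
    have hN : α * S.plane.J α = S.plane.j r * S.plane.j r := by
      rw [← map_mul, ← sq, ← frobenius_def, hr, hs]
    have hr0 : r ≠ 0 := fun e => mul_ne_zero hα ((map_ne_zero _).2 hα) (by rw [hN, e, map_zero, zero_mul])
    have hjr : S.plane.j r ≠ 0 := (map_ne_zero _).2 hr0
    obtain ⟨y, hy, he⟩ := hnorm (α / S.plane.j r) (by
      rw [map_div₀, S.plane.J_j, div_mul_div_comm, hN, div_self (mul_ne_zero hjr hjr)])
    refine ⟨y * U.C.k r, mul_mem (hWle hy).1.1 (h.Kk_le (U.C.k_mem r hr0)), fun x hx => ?_⟩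
    obtain ⟨h1, h2⟩ := hkr r hr0 x hx
    obtain ⟨h3, h4⟩ := hεc y hy _ (hst.conj_mem _ (h.Kk_le (U.C.k_mem r hr0)).1 _ hx)
    rw [show y * U.C.k r * x * (y * U.C.k r)⁻¹ = y * (U.C.k r * x * (U.C.k r)⁻¹) * y⁻¹ by group, h3, h4, h1, h2,
      he, hN, ← mul_assoc, div_mul_cancel₀ _ hjr]
    exact ⟨rfl, rfl⟩
  choose δ hδD hδc using hdiag
  obtain ⟨e⟩ := pgu_congr (FiniteField.ringEquivOfCardEq (K := L) (K' := K) (hL.trans hK.symm)) (2 ^ U.n)
  obtain ⟨i⟩ : Nonempty (G ≃* (Cfsg.GU 3 L (2 ^ U.n) ⧸ Subgroup.center (Cfsg.GU 3 L (2 ^ U.n)))) := by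
    refine iso_pgu U.two_le hL M.θ (fun A Z h => M.elt ⟨(A, Z), h⟩) t δ ?_ M.translate ?_ ?_ ?_ ?_ M.flip_pt ?_
    · intro A Z hAZ
      rw [M.θ_inf]
      exact hst.le (M.elt_mem _)
    · intro α hα
      rw [M.θ_inf]
      exact (hδD α hα).1
    · intro α hα A Z hAZ B Y h' hB hY
      rw [M.θ_mk, M.θ_mk]
      have hx := M.elt_mem ⟨(A, Z), hAZ⟩
      have hta : δ α hα • t • a = t • a := (hδD α hα).2
      calc δ α hα • M.elt ⟨(A, Z), hAZ⟩ • t • a
          = (δ α hα * M.elt ⟨(A, Z), hAZ⟩ * (δ α hα)⁻¹) • δ α hα • t • a := by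
            rw [mul_smul, mul_smul, inv_smul_smul]
        _ = M.elt ⟨(B, Y), h'⟩ • t • a := by
            rw [hta]
            congr 1
            obtain ⟨e1, e2⟩ := hδc α hα _ hx
            have hA := M.elt_A ⟨(A, Z), hAZ⟩
            have hA' := M.elt_A ⟨(B, Y), h'⟩
            have eA : S.co.A (δ α hα * M.elt ⟨(A, Z), hAZ⟩ * (δ α hα)⁻¹) = S.co.A (M.elt ⟨(B, Y), h'⟩) := by
              refine mul_left_cancel₀ M.μ_ne ?_
              rw [hA', e1, mul_left_comm, hA]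
              exact hB.symm
            refine S.co_uniq (hst.conj_mem _ (hδD α hα).1 _ hx) (M.elt_mem _) eA ?_
            have hZ1 := M.elt_Z ⟨(A, Z), hAZ⟩
            have hZ2 := M.elt_Z ⟨(B, Y), h'⟩
            rw [← eA, e1, map_mul] at hZ2
            simp only at hZ1 hZ2
            rw [e2]
            rw [← hJ] at hY
            linear_combination -hZ2 + (α * S.plane.J α) * hZ1 - hY
    · intro hh
      rw [M.θ_inf, M.θ_zero]
    · intro hh
      rw [M.θ_inf, M.θ_zero, smul_smul_self hst]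
    · rw [eq_top_iff]
      intro g _
      obtain ⟨T, hT⟩ : ∃ T, T = Subgroup.closure ({g | ∃ c Y hh, M.elt ⟨(c, Y), hh⟩ = g} ∪ {t} ∪
        {g | ∃ α hα, δ α hα = g}) := ⟨_, rfl⟩
      rw [← hT]
      have hQT : ∀ x ∈ Q, x ∈ T := fun x hx => by
        obtain ⟨⟨⟨A, Z⟩, hh⟩, e⟩ := M.elt_surj x hx
        exact hT ▸ Subgroup.subset_closure (.inl (.inl ⟨A, Z, hh, e⟩))
      have htT : t ∈ T := hT ▸ Subgroup.subset_closure (.inl (.inr rfl))
      have hDT : ∀ g ∈ Dd a t, g ∈ T := by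
        intro g hg
        obtain ⟨y, hy, j, hj, rfl⟩ := hdec g hg
        obtain ⟨r, hr0, rfl⟩ := U.C.k_surj j (by rw [← SetLike.mem_coe, h.coe_Kk]; exact hj)
        have hjr : S.plane.j r ≠ 0 := (map_ne_zero _).2 hr0
        have hα : ε y hy * S.plane.j r ≠ 0 := mul_ne_zero (fun e => by
          have := hεn y hy; rw [e, zero_mul] at this; exact zero_ne_one this) hjr
        have hyD : y ∈ Dd a t := (hWle hy).1.1
        have hgD : y * U.C.k r ∈ Dd a t := hg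
        suffices y * U.C.k r = δ _ hα from this ▸ hT ▸ Subgroup.subset_closure (.inr ⟨_, hα, rfl⟩)
        refine (inv_mul_eq_one.1 (h.eq_one_of_centralizes (mul_mem (inv_mem (hδD _ hα)) hgD) fun x hx => ?_)).symm
        have e1 : δ _ hα * x * (δ _ hα)⁻¹ = y * U.C.k r * x * (y * U.C.k r)⁻¹ := by
          obtain ⟨h1, h2⟩ := hkr r hr0 x hx
          have hkQ := hst.conj_mem _ (h.Kk_le (U.C.k_mem r hr0)).1 _ hx
          obtain ⟨h3, h4⟩ := hεc y hy _ hkQ
          refine S.co_uniq (hst.conj_mem _ (hδD _ hα).1 _ hx) (hst.conj_mem _ hgD.1 _ hx) ?_ ?_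
          · rw [(hδc _ hα x hx).1, show y * U.C.k r * x * (y * U.C.k r)⁻¹ =
              y * (U.C.k r * x * (U.C.k r)⁻¹) * y⁻¹ by group, h3, h1, mul_assoc]
          · rw [(hδc _ hα x hx).2, show y * U.C.k r * x * (y * U.C.k r)⁻¹ =
              y * (U.C.k r * x * (U.C.k r)⁻¹) * y⁻¹ by group, h4, h2, map_mul, S.plane.J_j]
            linear_combination S.plane.j r * S.plane.j r * S.co.Z x * hεn y hy
        calc (δ _ hα)⁻¹ * (y * U.C.k r) * x
            = (δ _ hα)⁻¹ * (y * U.C.k r * x * (y * U.C.k r)⁻¹) * (y * U.C.k r) := by group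
          _ = _ := by rw [← e1]; group
      have hex : ∃ l ∈ T, l • a = g • a := by
        by_cases e : g • a = a
        · exact ⟨1, one_mem T, by rw [one_smul, e]⟩
        · obtain ⟨q, hq, he⟩ := exists_orbit hst e
          exact ⟨q * t, mul_mem (hQT q hq) htT, by rw [mul_smul, he]⟩
      obtain ⟨l, hl, hle⟩ := hex
      obtain ⟨q, hq, d, hd, e⟩ := decomp hst (show l⁻¹ * g ∈ MulAction.stabilizer G a from
        show _ • a = a by rw [mul_smul, ← hle, inv_smul_smul])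
      rw [show g = l * (q * d) by rw [← e, mul_inv_cancel_left]]
      exact mul_mem hl (mul_mem (hQT q hq) (hDT d hd))
  exact ⟨i.trans e⟩

end Cfsg.Lib.PGU3Even
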