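import Cfsg.Agent.Lib.PGU3Even.Centralizer
import Cfsg.Agent.Lib.RankOneSuzuki.Setup
import Cfsg.Agent.Lib.StrongEmb.ExistsGood
import Cfsg.Agent.Lib.StrongEmb.Core

/-!
# A group with the involution centraliser of `PGU(3, q)` is a rank-one group

The normaliser of the centraliser of an involution is strongly embedded.  An element of order dividing `q - 1`
of a two-point stabiliser is inverted by every involution exchanging two of its fixed points, so it fixes only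
two points; hence the normal Sylow 2-subgroup is regular on the other points.
-/

set_option autoImplicit false
set_option linter.style.haveILetI false
set_option linter.unusedSectionVars false

namespace Cfsg.Lib.PGU3Even

open Subgroup Cfsg Cfsg.Lib.Invol Cfsg.Lib.RankOneSuzuki
open Cfsg.Lib.StrongEmb (kInv invSet)

universe u

variable {G : Type u} [Group G] [Finite G] {n : ℕ}

theorem odd_q_sub {n : ℕ} (hn : 1 ≤ n) : Odd (2 ^ n - 1) ∧ Odd (2 ^ n + 1) := by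
  obtain ⟨m, rfl⟩ : ∃ m, n = m + 1 := ⟨n - 1, by omega⟩
  have : 2 ^ (m + 1) = 2 * 2 ^ m := by ring
  have h1 := Nat.one_le_two_pow (n := m)
  exact ⟨⟨2 ^ m - 1, by omega⟩, ⟨2 ^ m, by omega⟩⟩

theorem eq_one_of_two {x : G} {m k : ℕ} (hm : Odd m) (h1 : x ^ m = 1) (h2 : x ^ (2 ^ k) = 1) : x = 1 := by
  rw [← orderOf_eq_one_iff]
  have hc : (m).Coprime (2 ^ k) := (Nat.coprime_two_right.2 hm).pow_right k
  exact Nat.eq_one_of_dvd_coprimes hc (orderOf_dvd_of_pow_eq_one h1) (orderOf_dvd_of_pow_eq_one h2)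

/-- The centraliser `C`, its Sylow 2-subgroup `S`. -/
structure CData (G : Type u) [Group G] (n : ℕ) where
  /-- the involution -/
  t₀ : G
  /-- the centraliser -/
  C : Subgroup G
  /-- its Sylow 2-subgroup -/
  S : Subgroup G
  two_le : 2 ≤ n
  invol : orderOf t₀ = 2
  C_eq : C = centralizer {t₀}
  S_le : S ≤ C
  card_S : Nat.card S = (2 ^ n) ^ 3
  card_C : Nat.card C = (2 ^ n) ^ 3 * (2 ^ n + 1)
  S_conj : ∀ c ∈ C, ∀ s ∈ S, c * s * c⁻¹ ∈ S
  comm_mem : ∀ a ∈ C, ∀ b ∈ C, a * b * a⁻¹ * b⁻¹ ∈ S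
  cent_S : ∀ x ∈ C, (∀ s ∈ S, x * s = s * x) → x ∈ S
  central : ∀ x ∈ C, orderOf x = 2 → ∀ y ∈ C, x * y = y * x
  count : Nat.card {x : G // orderOf x = 2 ∧ x ∈ C} = 2 ^ n - 1
  sylow : ∀ P : Subgroup G, IsPGroup 2 P → S ≤ P → P = S
  all_card : ∀ x : G, orderOf x = 2 → Nat.card (centralizer ({x} : Set G)) = Nat.card C
  not_normal : ¬ ∀ g : G, ∀ s ∈ S, g * s * g⁻¹ ∈ S

theorem exists_cdata (hn : 2 ≤ n) (heven : Even (Nat.card G))
    (hconj : ∀ s t : G, orderOf s = 2 → orderOf t = 2 → IsConj s t)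
    (hC : ∀ x : G, orderOf x = 2 → Shape (centralizer ({x} : Set G)) n)
    (hS : ∀ P : Sylow 2 G, ¬ (P : Subgroup G).Normal) : Nonempty (CData G n) := by
  haveI : Fact (Nat.Prime 2) := ⟨Nat.prime_two⟩
  obtain ⟨t, ht⟩ := exists_prime_orderOf_dvd_card' 2 heven.two_dvd
  obtain ⟨S', hS'n, hS', hC', hcom, hcs⟩ := (hC t ht).two
  obtain ⟨C, hCdef⟩ : ∃ C, C = centralizer ({t} : Set G) := ⟨_, rfl⟩
  subst hCdef
  obtain ⟨S, hSdef⟩ : ∃ S, S = S'.map (centralizer ({t} : Set G)).subtype := ⟨_, rfl⟩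
  have hSc : Nat.card S = (2 ^ n) ^ 3 := by
    rw [hSdef, ← hS']; exact Subgroup.card_map_of_injective (subtype_injective _)
  have hS2 : IsPGroup 2 S := IsPGroup.of_card (n := n * 3) (by rw [hSc, ← pow_mul])
  have hall : ∀ x : G, orderOf x = 2 →
      Nat.card (centralizer ({x} : Set G)) = Nat.card (centralizer ({t} : Set G)) := fun x hx => by
    obtain ⟨-, -, -, h, -, -⟩ := (hC x hx).two
    rw [h, hC']
  have hn0 : 1 ≤ n := by omega
  have hodd := (odd_q_sub hn0).2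
  have hq3 : (2 ^ n) ^ 3 = 2 ^ (n * 3) := by rw [← pow_mul]
  have hmax : ∀ P : Subgroup G, IsPGroup 2 P → S ≤ P → P = S := by
    intro P hP hSP
    obtain ⟨T, hT⟩ := hP.exists_le_sylow
    obtain ⟨k, hk⟩ := IsPGroup.iff_card.1 T.2
    haveI : Nontrivial (T : Subgroup G) := by
      rw [← Finite.one_lt_card_iff_nontrivial]
      calc 1 < Nat.card S := by rw [hSc, hq3]; exact Nat.one_lt_two_pow (by omega)
        _ ≤ _ := Subgroup.card_le_of_le (hSP.trans hT)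
    haveI := T.2.center_nontrivial
    have hev : Even (Nat.card ((Subgroup.center (T : Subgroup G)).map (T : Subgroup G).subtype)) := by
      rw [Subgroup.card_map_of_injective (subtype_injective _), even_iff_two_dvd]
      obtain ⟨j, hj⟩ := IsPGroup.iff_card.1 (T.2.to_subgroup (Subgroup.center (T : Subgroup G)))
      rw [hj]
      refine dvd_pow_self 2 fun e => ?_
      rw [e, pow_zero] at hj
      exact absurd hj (Finite.one_lt_card (α := Subgroup.center (T : Subgroup G))).ne'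
    obtain ⟨z, hz, hz2⟩ := exists_involution_of_even hev
    obtain ⟨z', hz', rfl⟩ := Subgroup.mem_map.1 hz
    have hTC : (T : Subgroup G) ≤ centralizer ({(z' : G)} : Set G) := fun x hx =>
      mem_centralizer_singleton_iff.2 (congrArg Subtype.val (Subgroup.mem_center_iff.1 hz' ⟨x, hx⟩))
    have hd := Subgroup.card_dvd_of_le hTC
    rw [hall (z' : G) hz2, hC', hk, hq3] at hd
    have h1 : 2 ^ k ∣ 2 ^ (n * 3) :=
      ((Nat.coprime_two_left.2 hodd).pow_left k).dvd_of_dvd_mul_right hd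
    refine (Subgroup.eq_of_le_of_card_ge hSP ?_).symm
    calc Nat.card P ≤ Nat.card (T : Subgroup G) := Subgroup.card_le_of_le hT
      _ ≤ Nat.card S := by rw [hk, hSc, hq3]; exact Nat.le_of_dvd (by positivity) h1
  have hnn : ¬ ∀ g : G, ∀ s ∈ S, g * s * g⁻¹ ∈ S := by
    intro h
    obtain ⟨T, hT⟩ := hS2.exists_le_sylow
    refine hS T ⟨fun x hx g => ?_⟩
    rw [hmax _ T.2 hT] at hx ⊢
    exact h g x hx
  refine ⟨⟨t, _, S, hn, ht, rfl, ?_, hSc, hC', ?_, ?_, ?_, ?_, ?_, hmax, hall, hnn⟩⟩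
  · rw [hSdef]; exact Subgroup.map_subtype_le _
  · intro c hc x hx
    rw [hSdef] at hx ⊢
    obtain ⟨x', hx', rfl⟩ := Subgroup.mem_map.1 hx
    exact ⟨⟨c, hc⟩ * x' * (⟨c, hc⟩ : centralizer ({t} : Set G))⁻¹, hS'n.conj_mem x' hx' _, rfl⟩
  · intro a ha b hb
    rw [hSdef]
    exact ⟨_, hcom ⟨a, ha⟩ ⟨b, hb⟩, rfl⟩
  · intro x hx h
    rw [hSdef]
    refine ⟨⟨x, hx⟩, hcs _ fun s hs => Subtype.ext ?_, rfl⟩
    exact h s (hSdef ▸ Subgroup.mem_map_of_mem _ hs)
  · intro x hx hx2 y hy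
    exact congrArg Subtype.val ((hC t ht).central ⟨x, hx⟩ (by rw [← Subgroup.orderOf_coe]; exact hx2) ⟨y, hy⟩)
  · rw [← (hC t ht).count]
    refine Nat.card_congr
      { toFun := fun x => ⟨⟨x.1, x.2.2⟩, by rw [← Subgroup.orderOf_coe]; exact x.2.1⟩
        invFun := fun x => ⟨x.1.1, by rw [Subgroup.orderOf_coe]; exact x.2, x.1.2⟩
        left_inv := fun _ => rfl
        right_inv := fun _ => rfl }

namespace CData

variable (d : CData G n)

/-- The normaliser of the centraliser. -/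
def H : Subgroup G := normalizer (d.C : Set G)

theorem C_le : d.C ≤ d.H := Subgroup.le_normalizer

theorem t_mem : d.t₀ ∈ d.C := by rw [d.C_eq]; exact mem_centralizer_singleton_iff.2 rfl

theorem conj_C {h c : G} (hh : h ∈ d.H) (hc : c ∈ d.C) : h * c * h⁻¹ ∈ d.C :=
  (Subgroup.mem_normalizer_iff.1 hh c).1 hc

theorem mem_S {x : G} (hx : x ∈ d.C) {k : ℕ} (hk : x ^ (2 ^ k) = 1) : x ∈ d.S := by
  haveI : Fact (Nat.Prime 2) := ⟨Nat.prime_two⟩
  have hxn : zpowers x ≤ normalizer (d.S : Set G) := zpowers_le.2 (mem_normalizer_iff.2 fun s =>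
    ⟨d.S_conj x hx s, fun h => by
      simpa [mul_assoc] using d.S_conj x⁻¹ (inv_mem hx) _ h⟩)
  have hS2 : IsPGroup 2 d.S := IsPGroup.of_card (n := n * 3) (by rw [d.card_S, ← pow_mul])
  have hx2 : IsPGroup 2 (zpowers x) := by
    obtain ⟨j, -, hj⟩ := (Nat.dvd_prime_pow Nat.prime_two).1 (orderOf_dvd_of_pow_eq_one hk)
    exact IsPGroup.of_card (n := j) (by rw [Nat.card_zpowers, hj])
  have := d.sylow _ (hS2.to_sup_of_normal_left' hx2 hxn) le_sup_left
  exact this ▸ (le_sup_right : zpowers x ≤ d.S ⊔ zpowers x) (mem_zpowers x)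

theorem pow_S {s : G} (hs : s ∈ d.S) : s ^ (2 ^ (n * 3)) = 1 := by
  rw [pow_mul, ← orderOf_dvd_iff_pow_eq_one, ← d.card_S]
  exact Subgroup.orderOf_dvd_natCard _ hs

theorem S_conj_H {h s : G} (hh : h ∈ d.H) (hs : s ∈ d.S) : h * s * h⁻¹ ∈ d.S :=
  d.mem_S (d.conj_C hh (d.S_le hs)) (k := n * 3) (by rw [conj_pow, d.pow_S hs, mul_one, mul_inv_cancel])

theorem two_mem_S {x : G} (hx : x ∈ d.H) {k : ℕ} (hk : x ^ (2 ^ k) = 1) : x ∈ d.S := by
  haveI : Fact (Nat.Prime 2) := ⟨Nat.prime_two⟩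
  have hxn : zpowers x ≤ normalizer (d.S : Set G) := zpowers_le.2 (mem_normalizer_iff.2 fun s =>
    ⟨d.S_conj_H hx, fun h => by
      simpa [mul_assoc] using d.S_conj_H (inv_mem hx) h⟩)
  have hS2 : IsPGroup 2 d.S := IsPGroup.of_card (n := n * 3) (by rw [d.card_S, ← pow_mul])
  have hx2 : IsPGroup 2 (zpowers x) := by
    obtain ⟨j, -, hj⟩ := (Nat.dvd_prime_pow Nat.prime_two).1 (orderOf_dvd_of_pow_eq_one hk)
    exact IsPGroup.of_card (n := j) (by rw [Nat.card_zpowers, hj])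
  have := d.sylow _ (hS2.to_sup_of_normal_left' hx2 hxn) le_sup_left
  exact this ▸ (le_sup_right : zpowers x ≤ d.S ⊔ zpowers x) (mem_zpowers x)

theorem invol_mem {x : G} (hx : x ∈ d.H) (hx2 : orderOf x = 2) : x ∈ d.C :=
  d.S_le (d.two_mem_S hx (k := 1) (by rw [pow_one, ← hx2, pow_orderOf_eq_one]))

theorem centralizer_invol {x : G} (hx : x ∈ d.C) (hx2 : orderOf x = 2) :
    centralizer ({x} : Set G) = d.C :=
  (Subgroup.eq_of_le_of_card_ge (fun y hy => mem_centralizer_singleton_iff.2 (d.central x hx hx2 y hy).symm)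
    (d.all_card x hx2).le).symm

theorem mem_H_of_conj {g : G} (h : g * d.t₀ * g⁻¹ ∈ d.C) : g ∈ d.H := by
  have e := d.centralizer_invol h (by rw [Invol.orderOf_conj_eq, d.invol])
  refine mem_normalizer_iff.2 fun c => ?_
  conv_rhs => rw [← e, mem_centralizer_singleton_iff]
  rw [d.C_eq, mem_centralizer_singleton_iff]
  constructor <;> intro he
  · calc g * c * g⁻¹ * (g * d.t₀ * g⁻¹) = g * (c * d.t₀) * g⁻¹ := by group
      _ = _ := by rw [he]; group
  · calc c * d.t₀ = g⁻¹ * (g * c * g⁻¹ * (g * d.t₀ * g⁻¹)) * g := by group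
      _ = _ := by rw [he]; group

theorem stronglyEmbedded : IsStronglyEmbedded d.H := by
  refine ⟨fun e => d.not_normal fun g s hs => d.S_conj_H (e ▸ Subgroup.mem_top g) hs, ?_, fun g hg => ?_⟩
  · exact even_iff_two_dvd.2 (d.invol ▸ Subgroup.orderOf_dvd_natCard _ (d.C_le d.t_mem))
  · rw [← Nat.not_even_iff_odd]
    intro he
    obtain ⟨x, ⟨hx, hxg⟩, hx2⟩ := exists_involution_of_even he
    obtain ⟨y, hy, rfl⟩ := Subgroup.mem_map.1 hxg
    have hy2 : orderOf y = 2 := by rwa [MulEquiv.coe_toMonoidHom, MulEquiv.orderOf_eq] at hx2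
    have h1 := d.centralizer_invol (d.invol_mem hy hy2) hy2
    have h2 := d.centralizer_invol (d.invol_mem hx hx2) hx2
    refine hg (d.mem_H_of_conj ?_)
    have ht : d.t₀ ∈ centralizer ({y} : Set G) := h1.symm ▸ d.t_mem
    rw [← h2, mem_centralizer_singleton_iff]
    simp only [MulEquiv.coe_toMonoidHom, MulAut.conj_apply]
    calc g * d.t₀ * g⁻¹ * (g * y * g⁻¹) = g * (d.t₀ * y) * g⁻¹ := by group
      _ = _ := by rw [mem_centralizer_singleton_iff.1 ht]; group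

theorem kInv_eq : kInv d.H = 2 ^ n - 1 := by
  rw [kInv, ← d.count]
  exact Nat.card_congr (Equiv.subtypeEquivRight fun x =>
    ⟨fun h => ⟨h.1, d.invol_mem h.2 h.1⟩, fun h => ⟨h.1, d.C_le h.2⟩⟩)

theorem relIndex_C : d.C.relIndex d.H = 2 ^ n - 1 := by
  have h := Cfsg.Lib.StrongEmb.kInv_eq_index d.stronglyEmbedded (d.C_le d.t_mem) d.invol
  rw [d.kInv_eq, ← d.C_eq] at h
  exact h.symm

theorem faithful : ∀ g : G, (∀ x : G ⧸ d.H, g • x = x) → g = 1 := by
  intro g hg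
  set N := d.H.normalCore
  have hgN : g ∈ N := by
    rw [show N = _ from Subgroup.normalCore_eq_ker d.H, MonoidHom.mem_ker]
    exact Equiv.ext fun x => hg x
  have hNH : N ≤ d.H := d.H.normalCore_le
  have hodd : Odd (Nat.card N) := by
    rw [← Nat.not_even_iff_odd]
    intro he
    obtain ⟨x, hx, hx2⟩ := exists_involution_of_even he
    refine d.stronglyEmbedded.1 (eq_top_iff.2 fun y _ => d.mem_H_of_conj ?_)
    have h1 := d.invol_mem (hNH hx) hx2
    have h2 : y * x * y⁻¹ ∈ d.C :=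
      d.invol_mem (hNH ((inferInstance : N.Normal).conj_mem x hx y)) (by rw [Invol.orderOf_conj_eq, hx2])
    have h3 := d.centralizer_invol h1 hx2
    have ht : d.t₀ ∈ centralizer ({x} : Set G) := h3.symm ▸ d.t_mem
    rw [← d.centralizer_invol h2 (by rw [Invol.orderOf_conj_eq, hx2]), mem_centralizer_singleton_iff]
    calc y * d.t₀ * y⁻¹ * (y * x * y⁻¹) = y * (d.t₀ * x) * y⁻¹ := by group
      _ = _ := by rw [mem_centralizer_singleton_iff.1 ht]; group
  have hc : ∀ s ∈ d.S, g * s = s * g := by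
    intro s hs
    have h1 : g * s * g⁻¹ * s⁻¹ ∈ d.S := mul_mem (d.S_conj_H (hNH hgN) hs) (inv_mem hs)
    have h2 : g * s * g⁻¹ * s⁻¹ ∈ N := by
      rw [show g * s * g⁻¹ * s⁻¹ = g * (s * g⁻¹ * s⁻¹) by group]
      exact mul_mem hgN ((inferInstance : N.Normal).conj_mem _ (inv_mem hgN) s)
    have := eq_one_of_two hodd (orderOf_dvd_iff_pow_eq_one.1 (Subgroup.orderOf_dvd_natCard N h2)) (d.pow_S h1)
    rwa [mul_inv_eq_one, mul_inv_eq_iff_eq_mul] at this
  have hgC : g ∈ d.C := by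
    rw [d.C_eq, mem_centralizer_singleton_iff]
    exact hc _ (d.mem_S d.t_mem (k := 1) (by rw [pow_one, ← d.invol, pow_orderOf_eq_one]))
  exact eq_one_of_two hodd (orderOf_dvd_iff_pow_eq_one.1 (Subgroup.orderOf_dvd_natCard N hgN))
    (d.pow_S (d.cent_S g hgC hc))

theorem four : ∃ s t : G, s ∈ d.H ∧ t ∈ d.H ∧ orderOf s = 2 ∧ orderOf t = 2 ∧ s ≠ t ∧ Commute s t := by
  have h3 : 1 < Nat.card {x : G // orderOf x = 2 ∧ x ∈ d.C} := by
    have : 2 ^ 2 ≤ 2 ^ n := Nat.pow_le_pow_right (by norm_num) d.two_le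
    rw [d.count]; omega
  haveI := Finite.one_lt_card_iff_nontrivial.1 h3
  obtain ⟨x, y, hxy⟩ := exists_pair_ne {x : G // orderOf x = 2 ∧ x ∈ d.C}
  exact ⟨x.1, y.1, d.C_le x.2.2, d.C_le y.2.2, x.2.1, y.2.1, fun e => hxy (Subtype.ext e),
    d.central x.1 x.2.2 x.2.1 y.1 y.2.2⟩

/-- The base point. -/
abbrev base : G ⧸ d.H := QuotientGroup.mk 1

theorem stab : MulAction.stabilizer G d.base = d.H := by
  ext g; rw [MulAction.mem_stabilizer_iff, base, smul_coset_one_eq]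

theorem two_trans {x y x' y' : G ⧸ d.H} (h : x ≠ y) (h' : x' ≠ y') : ∃ g : G, g • x = x' ∧ g • y = y' :=
  Cfsg.Lib.StrongEmb.pretransitive_of_four d.stronglyEmbedded d.four h h'

/-- The two-point stabiliser. -/
abbrev D (b : G ⧸ d.H) : Subgroup G := MulAction.stabilizer G d.base ⊓ MulAction.stabilizer G b

theorem D_le (b : G ⧸ d.H) : d.D b ≤ d.H := fun _ hx => d.stab ▸ hx.1

theorem pow_mem_C {x : G} (hx : x ∈ d.H) : x ^ (2 ^ n - 1) ∈ d.C := by
  haveI : (d.C.subgroupOf d.H).Normal := ⟨fun y hy g => d.conj_C g.2 hy⟩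
  have h := (d.C.subgroupOf d.H).pow_index_mem ⟨x, hx⟩
  rw [← Subgroup.relIndex, d.relIndex_C, mem_subgroupOf] at h
  exact h

theorem facts {b : G ⧸ d.H} (hb : b ≠ d.base) :
    Odd (Nat.card (d.D b)) ∧ Nat.card ↥(d.D b ⊓ d.C) ∣ 2 ^ n + 1 ∧
      ∀ x ∈ d.D b, (x ∈ d.C ↔ x ^ (2 ^ n + 1) = 1) := by
  have hodd : Odd (Nat.card (d.D b)) := StrongEmb.odd_two d.stronglyEmbedded hb.symm
  have h1 : Nat.card ↥(d.D b ⊓ d.C) ∣ 2 ^ n + 1 := by
    have h2 := Subgroup.card_dvd_of_le (inf_le_right : d.D b ⊓ d.C ≤ d.C)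
    have h3 : Odd (Nat.card ↥(d.D b ⊓ d.C)) := hodd.of_dvd_nat (Subgroup.card_dvd_of_le inf_le_left)
    rw [d.card_C, ← pow_mul] at h2
    exact ((Nat.coprime_two_right.2 h3).pow_right _).dvd_of_dvd_mul_left h2
  refine ⟨hodd, h1, fun x hx => ⟨fun hxC => ?_, fun he => ?_⟩⟩
  · exact orderOf_dvd_iff_pow_eq_one.1
      ((Subgroup.orderOf_dvd_natCard _ (show x ∈ d.D b ⊓ d.C from ⟨hx, hxC⟩)).trans h1)
  · have h2 := d.pow_mem_C (d.D_le b hx)
    have h3 : x ^ 2 ∈ d.C := by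
      have h4 : (1 : G) ∈ d.C := one_mem _
      rw [← he, show 2 ^ n + 1 = (2 ^ n - 1) + 2 by have := Nat.one_le_two_pow (n := n); omega, pow_add] at h4
      simpa using mul_mem (inv_mem h2) h4
    obtain ⟨i, hi⟩ : Odd (orderOf x) := hodd.of_dvd_nat (Subgroup.orderOf_dvd_natCard _ hx)
    have : x = (x ^ 2) ^ (i + 1) := by
      rw [← pow_mul, show 2 * (i + 1) = orderOf x + 1 by omega, pow_succ, pow_orderOf_eq_one, one_mul]
    rw [this]; exact pow_mem h3 _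

theorem pair {b : G ⧸ d.H} (hb : b ≠ d.base) {w : G} (hw : orderOf w = 2) (hwb : w • d.base = b) :
    Nat.card (d.D b) = (2 ^ n - 1) * Nat.card ↥(d.D b ⊓ d.C) ∧
    (∀ x ∈ d.D b, x ∈ d.C → x * w = w * x) ∧
    (∀ l ∈ d.D b, l ^ (2 ^ n - 1) = 1 → w * l * w⁻¹ = l⁻¹) ∧
    (∀ x ∈ d.D b, ∀ j ∈ d.D b, x ∈ d.C → w * j * w⁻¹ = j⁻¹ → x * j = j * x) ∧
    ∀ g ∈ d.D b, ∃ j ∈ d.D b, ∃ y ∈ d.D b, y ∈ d.C ∧ w * j * w⁻¹ = j⁻¹ ∧ g = y * j := by
  obtain ⟨hodd, hWdvd, hWiff⟩ := d.facts hb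
  have hn0 : 1 ≤ n := le_trans (by norm_num) d.two_le
  obtain ⟨hk, hq⟩ := odd_q_sub hn0
  have hcop : (2 ^ n + 1).Coprime (2 ^ n - 1) := by
    have h1 : Nat.gcd (2 ^ n + 1) (2 ^ n - 1) ∣ 2 ^ n + 1 := Nat.gcd_dvd_left _ _
    have h2 : Nat.gcd (2 ^ n + 1) (2 ^ n - 1) ∣ 2 := by
      have := Nat.dvd_sub h1 (Nat.gcd_dvd_right (2 ^ n + 1) (2 ^ n - 1))
      have e : 2 ^ n + 1 - (2 ^ n - 1) = 2 := by have := Nat.one_le_two_pow (n := n); omega
      rwa [e] at this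
    exact Nat.eq_one_of_dvd_coprimes (Nat.coprime_two_left.2 hq) h2 h1
  have hnorm := StrongEmb.swapper_norm hw hwb
  have hconj : ∀ x ∈ d.D b, w * x * w⁻¹ ∈ d.D b := fun x hx => (mem_normalizer_iff.1 hnorm x).1 hx
  -- the inverted elements
  have hJ : (invSet w (d.D b)).ncard = 2 ^ n - 1 := by
    rw [StrongEmb.ncard_invSet_two d.stronglyEmbedded hb.symm hw hwb, d.kInv_eq]
  have hidx := StrongEmb.ncard_invSet hw hnorm hodd
  rw [hJ] at hidx
  have hCD : Nat.card ↥(d.D b) = Nat.card ((centralizer ({w} : Set G)).subgroupOf (d.D b)) * (2 ^ n - 1) := by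
    rw [hidx, Subgroup.card_mul_index]
  haveI hCn : (d.C.subgroupOf d.H).Normal := ⟨fun y hy g => d.conj_C g.2 hy⟩
  have hWD : Nat.card (d.D b) = Nat.card ↥(d.D b ⊓ d.C) * d.C.relIndex (d.D b) := by
    rw [← Subgroup.card_mul_index (d.C.subgroupOf (d.D b)), Subgroup.relIndex,
      Nat.card_congr (Subgroup.subgroupOfEquivOfLe (inf_le_left : d.D b ⊓ d.C ≤ d.D b)).toEquiv.symm,
      Subgroup.inf_subgroupOf_left]
  have hrel : d.C.relIndex (d.D b) ∣ 2 ^ n - 1 := by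
    rw [← d.relIndex_C, ← Subgroup.relIndex_subgroupOf (d.D_le b)]
    exact Subgroup.relIndex_dvd_index_of_normal _ _
  have hWq : (Nat.card ↥(d.D b ⊓ d.C)).Coprime (2 ^ n - 1) := hcop.coprime_dvd_left hWdvd
  have hrel' : d.C.relIndex (d.D b) = 2 ^ n - 1 :=
    Nat.dvd_antisymm hrel (hWq.symm.dvd_of_dvd_mul_left (hWD ▸ hCD ▸ Dvd.intro_left _ rfl))
  have hWc : Nat.card ((centralizer ({w} : Set G)).subgroupOf (d.D b)) = Nat.card ↥(d.D b ⊓ d.C) := by
    rw [hWD, hrel'] at hCD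
    exact (Nat.eq_of_mul_eq_mul_right hk.pos hCD).symm
  -- the centraliser of `w` is the kernel
  have hcentW : ∀ x ∈ d.D b, x ∈ d.C → x * w = w * x := by
    have hle : ((centralizer ({w} : Set G)).subgroupOf (d.D b)).map (d.D b).subtype ≤ d.D b ⊓ d.C := by
      rintro _ ⟨x, hx, rfl⟩
      refine ⟨x.2, (hWiff _ x.2).2 ?_⟩
      have := orderOf_dvd_iff_pow_eq_one.1 ((Subgroup.orderOf_dvd_natCard _ hx).trans (hWc ▸ hWdvd))
      exact congrArg Subtype.val this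
    have heq := Subgroup.eq_of_le_of_card_ge hle (by
      rw [Subgroup.card_map_of_injective (subtype_injective _), hWc])
    intro x hx hxC
    obtain ⟨y, hy, rfl⟩ : x ∈ ((centralizer ({w} : Set G)).subgroupOf (d.D b)).map (d.D b).subtype :=
      heq ▸ ⟨hx, hxC⟩
    exact mem_centralizer_singleton_iff.1 hy
  have hcentW' : ∀ x ∈ d.D b, x ∈ d.C → w * x * w⁻¹ = x := fun x hx hxC => by
    rw [← hcentW x hx hxC]; group
  have half : ∀ {y : G}, y ∈ d.D b → y⁻¹ = y → y = 1 := by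
    intro y hy e
    refine eq_one_of_two (k := 1) (hodd.of_dvd_nat (Subgroup.orderOf_dvd_natCard _ hy))
      (pow_orderOf_eq_one y) ?_
    rw [pow_one, sq]
    nth_rw 1 [← e]
    rw [inv_mul_cancel]
  -- inverted elements commute with the kernel
  have hcomm : ∀ x ∈ d.D b, ∀ j ∈ d.D b, x ∈ d.C → w * j * w⁻¹ = j⁻¹ → x * j = j * x := by
    intro x hx j hj hxC e
    have hmem : j * x * j⁻¹ ∈ d.C := d.conj_C (d.D_le b hj) hxC
    have h1 := hcentW' _ (mul_mem (mul_mem hj hx) (inv_mem hj)) hmem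
    have h2 : w * (j * x * j⁻¹) * w⁻¹ = (w * j * w⁻¹) * (w * x * w⁻¹) * (w * j * w⁻¹)⁻¹ := by group
    rw [h1, e, hcentW' x hx hxC, inv_inv] at h2
    have h3 : Commute (j ^ 2) x := by
      show j ^ 2 * x = x * j ^ 2
      rw [sq]
      calc j * j * x = j * (j * x * j⁻¹) * j := by group
        _ = _ := by rw [h2]; group
    obtain ⟨i, hi⟩ : Odd (orderOf j) := hodd.of_dvd_nat (Subgroup.orderOf_dvd_natCard _ hj)
    have h4 := h3.pow_left (i + 1)
    rw [← pow_mul, show 2 * (i + 1) = orderOf j + 1 by omega, pow_succ, pow_orderOf_eq_one, one_mul] at h4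
    exact h4.eq.symm
  -- the inverted elements represent the cosets of the kernel
  have hdec : ∀ g ∈ d.D b, ∃ j ∈ d.D b, ∃ y ∈ d.D b, y ∈ d.C ∧ w * j * w⁻¹ = j⁻¹ ∧ g = y * j := by
    let f : invSet w (d.D b) → d.D b ⧸ d.C.subgroupOf (d.D b) := fun j => QuotientGroup.mk ⟨j.1, j.2.1⟩
    have finj : Function.Injective f := by
      rintro ⟨j, hj, hjw⟩ ⟨j', hj', hjw'⟩ e
      have hy : j⁻¹ * j' ∈ d.C := by simpa [mem_subgroupOf] using QuotientGroup.eq.1 e
      have hyD : j⁻¹ * j' ∈ d.D b := mul_mem (inv_mem hj) hj'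
      have h2 := hcomm _ hyD j hj hy hjw
      have h1 := hcentW' _ hyD hy
      rw [show w * (j⁻¹ * j') * w⁻¹ = (w * j * w⁻¹)⁻¹ * (w * j' * w⁻¹) by group, hjw, hjw', inv_inv] at h1
      have e2 : j' = j * (j⁻¹ * j') := by group
      have h5 : (j⁻¹ * j')⁻¹ = j⁻¹ * j' := by
        conv_rhs => rw [← h1, e2, mul_inv_rev]
        rw [← mul_assoc, ← inv_inj]
        simp only [mul_inv_rev, inv_inv]
        rw [← mul_assoc, ← h2]
        group
      exact Subtype.ext (inv_mul_eq_one.1 (half hyD h5))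
    have fsurj : Function.Surjective f := by
      refine ((Nat.bijective_iff_injective_and_card f).2 ⟨finj, ?_⟩).2
      rw [Nat.card_coe_set_eq, hJ, ← hrel', Subgroup.relIndex, Subgroup.index]
    intro g hg
    obtain ⟨⟨j, hj, hjw⟩, e⟩ := fsurj (QuotientGroup.mk ⟨g, hg⟩)
    have hy : j⁻¹ * g ∈ d.C := by simpa [mem_subgroupOf] using QuotientGroup.eq.1 e
    have hyD : j⁻¹ * g ∈ d.D b := mul_mem (inv_mem hj) hg
    exact ⟨j, hj, _, hyD, hy, hjw, by rw [hcomm _ hyD j hj hy hjw, mul_inv_cancel_left]⟩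
  refine ⟨by rw [hWD, hrel', mul_comm], hcentW, fun l hl he => ?_, hcomm, hdec⟩
  obtain ⟨j, hj, y, hy, hyC, hjw, rfl⟩ := hdec l hl
  have hc : Commute y j := hcomm y hy j hj hyC hjw
  have hjp : j ^ (2 ^ n - 1) = 1 := by
    have hjC : j ^ (2 ^ n - 1) ∈ d.C := d.pow_mem_C (d.D_le b hj)
    refine half (pow_mem hj _) ?_
    conv_rhs => rw [← hcentW' _ (pow_mem hj _) hjC, ← conj_pow, hjw, inv_pow]
  rw [hc.mul_pow, hjp, mul_one] at he
  have hy1 : y = 1 := by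
    rw [← orderOf_eq_one_iff]
    exact Nat.eq_one_of_dvd_coprimes hcop (orderOf_dvd_of_pow_eq_one ((hWiff y hy).1 hyC))
      (orderOf_dvd_of_pow_eq_one he)
  rw [hy1, one_mul]; exact hjw

theorem inverted {x y : G ⧸ d.H} (hxy : x ≠ y) {w : G} (hw : orderOf w = 2) (hwx : w • x = y) {l : G}
    (hlx : l • x = x) (hly : l • y = y) (hl : l ^ (2 ^ n - 1) = 1) : w * l * w⁻¹ = l⁻¹ := by
  obtain ⟨g, hg⟩ := MulAction.exists_smul_eq G x d.base
  have h := (d.pair (b := g • y) (fun e => hxy (MulAction.injective g (hg.trans e.symm)))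
    (w := g * w * g⁻¹) (by rw [Invol.orderOf_conj_eq, hw]) (by
      rw [mul_smul, mul_smul, ← hg, inv_smul_smul, hwx])).2.2.1 (g * l * g⁻¹)
    ⟨show _ • d.base = d.base by rw [mul_smul, mul_smul, ← hg, inv_smul_smul, hlx],
      show _ • g • y = g • y by rw [mul_smul, mul_smul, inv_smul_smul, hly]⟩
    (by rw [conj_pow, hl, mul_one, mul_inv_cancel])
  rw [show g * w * g⁻¹ * (g * l * g⁻¹) * (g * w * g⁻¹)⁻¹ = g * (w * l * w⁻¹) * g⁻¹ by group,
    show (g * l * g⁻¹)⁻¹ = g * l⁻¹ * g⁻¹ by group] at h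
  exact mul_left_cancel (mul_right_cancel h)

theorem fix_two {x y z : G ⧸ d.H} (hxy : x ≠ y) (hxz : x ≠ z) (hyz : y ≠ z) {l : G}
    (hlx : l • x = x) (hly : l • y = y) (hlz : l • z = z) (hl : l ^ (2 ^ n - 1) = 1) : l = 1 := by
  have hse := d.stronglyEmbedded
  obtain ⟨w₁, hw₁, hw₁e⟩ := StrongEmb.exists_swapper hse hxy.symm
  obtain ⟨w₂, hw₂, hw₂e⟩ := StrongEmb.exists_swapper hse hxz
  obtain ⟨v, hv, hve⟩ := StrongEmb.exists_swapper hse hyz.symm
  have i₁ := d.inverted hxy.symm hw₁ hw₁e hly hlx hl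
  have i₂ := d.inverted hxz hw₂ hw₂e hlx hlz hl
  have i₃ := d.inverted hyz.symm hv hve hlz hly hl
  obtain ⟨g, hgdef⟩ : ∃ g, g = v * w₂ * w₁ := ⟨_, rfl⟩
  have hgy : g • y = y := by rw [hgdef, mul_smul, mul_smul, hw₁e, hw₂e, hve]
  have hgl : g * l * g⁻¹ = l⁻¹ := by
    rw [hgdef]
    have e : ∀ {w : G}, w * l * w⁻¹ = l⁻¹ → w * l⁻¹ * w⁻¹ = l := fun {w} h => by
      rw [← inv_inj, show (w * l⁻¹ * w⁻¹)⁻¹ = w * l * w⁻¹ by group, h]
    calc v * w₂ * w₁ * l * (v * w₂ * w₁)⁻¹ = v * (w₂ * (w₁ * l * w₁⁻¹) * w₂⁻¹) * v⁻¹ := by group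
      _ = _ := by rw [i₁, e i₂, i₃]
  -- the 2-part of `g` inverts `l`
  obtain ⟨k, o, ho, hko⟩ := Nat.exists_eq_two_pow_mul_odd (orderOf_pos g).ne'
  have hpow : ∀ i : ℕ, g ^ (2 * i) * l * (g ^ (2 * i))⁻¹ = l := by
    intro i
    induction i with
    | zero => simp
    | succ i ih =>
      rw [show 2 * (i + 1) = 2 + 2 * i by ring, pow_add, mul_inv_rev]
      calc g ^ 2 * g ^ (2 * i) * l * ((g ^ (2 * i))⁻¹ * (g ^ 2)⁻¹)
          = g ^ 2 * (g ^ (2 * i) * l * (g ^ (2 * i))⁻¹) * (g ^ 2)⁻¹ := by group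
        _ = g * (g * l * g⁻¹) * g⁻¹ := by rw [ih, sq]; group
        _ = l := by rw [hgl, show g * l⁻¹ * g⁻¹ = (g * l * g⁻¹)⁻¹ by group, hgl, inv_inv]
  obtain ⟨i, rfl⟩ := ho
  obtain ⟨u, hudef⟩ : ∃ u, u = g ^ (2 * i + 1) := ⟨_, rfl⟩
  have hul : u * l * u⁻¹ = l⁻¹ := by
    rw [hudef, pow_succ', mul_inv_rev]
    calc g * g ^ (2 * i) * l * ((g ^ (2 * i))⁻¹ * g⁻¹) = g * (g ^ (2 * i) * l * (g ^ (2 * i))⁻¹) * g⁻¹ := by
          group
      _ = _ := by rw [hpow, hgl]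
  have hu2 : u ^ (2 ^ k) = 1 := by
    rw [hudef, ← pow_mul, mul_comm, ← hko, pow_orderOf_eq_one]
  have huy : u • y = y := by
    rw [hudef]
    exact MulAction.mem_stabilizer_iff.1 (pow_mem (MulAction.mem_stabilizer_iff.2 hgy) _)
  obtain ⟨c, hc⟩ := MulAction.exists_smul_eq G y d.base
  have hmem : ∀ {x : G}, x • y = y → c * x * c⁻¹ ∈ d.H := fun {x} hx => d.stab ▸ (show _ • d.base = d.base by
    rw [mul_smul, mul_smul, ← hc, inv_smul_smul, hx])
  have huS : c * u * c⁻¹ ∈ d.S := d.two_mem_S (hmem huy) (k := k) (by rw [conj_pow, hu2, mul_one, mul_inv_cancel])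
  have hlS : (c * u * c⁻¹) * (c * l * c⁻¹ * (c * u * c⁻¹)⁻¹ * (c * l * c⁻¹)⁻¹) ∈ d.S :=
    mul_mem huS (d.S_conj_H (hmem hly) (inv_mem huS))
  rw [show (c * u * c⁻¹) * (c * l * c⁻¹ * (c * u * c⁻¹)⁻¹ * (c * l * c⁻¹)⁻¹) =
    c * (u * l * u⁻¹ * l⁻¹) * c⁻¹ by group, hul] at hlS
  have h2 := d.pow_S hlS
  rw [conj_pow] at h2
  have h3 : (l⁻¹ * l⁻¹) ^ 2 ^ (n * 3) = 1 := by
    rwa [mul_inv_eq_one, mul_eq_left] at h2
  rw [← sq, ← pow_mul, ← pow_succ', inv_pow, inv_eq_one] at h3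
  exact eq_one_of_two (odd_q_sub (le_trans (by norm_num) d.two_le)).1 hl h3

theorem exists_hyp : ∃ (t : G) (_ : FaithfulSMul G (G ⧸ d.H)),
    Hyp G (G ⧸ d.H) d.base t d.S ∧ IsPGroup 2 d.S ∧ Nat.card (Zz G d.base) = 2 ^ n ∧
      ∃ W : Subgroup G, Nat.card W = 2 ^ n + 1 ∧ W ≤ Ww d.base t ∧ (∀ x ∈ W, ∀ y ∈ W, x * y = y * x) ∧
        (∀ x ∈ W, ∀ z ∈ Zz G d.base, x * z = z * x) ∧
        ∀ g ∈ Dd d.base t, ∃ y ∈ W, ∃ j ∈ Cfsg.invertedBy (Dd d.base t) t, g = y * j := by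
  classical
  have hn0 : 1 ≤ n := le_trans (by norm_num) d.two_le
  have hse := d.stronglyEmbedded
  obtain ⟨t, htH, ht2⟩ := se_exists_outside hse
  have htt : t * t = 1 := by rw [← sq, ← ht2, pow_orderOf_eq_one]
  have hta : t • d.base ≠ d.base := fun e => htH (d.stab ▸ (e : t ∈ MulAction.stabilizer G d.base))
  haveI hfaith : FaithfulSMul G (G ⧸ d.H) := ⟨fun {x y} h => inv_mul_eq_one.1 (d.faithful (x⁻¹ * y) fun p => by
    rw [mul_smul, ← h p, inv_smul_smul])⟩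
  obtain ⟨b, hbdef⟩ : ∃ b, b = t • d.base := ⟨_, rfl⟩
  have hb : b ≠ d.base := hbdef ▸ hta
  obtain ⟨hcard, hcW, -, hcJ, hdec⟩ := d.pair hb ht2 hbdef.symm
  obtain ⟨hodd, hWdvd, hWiff⟩ := d.facts hb
  set W := d.D b ⊓ d.C with hW
  -- `D` is semiregular modulo `W` on the other points
  have hfix : ∀ c : G ⧸ d.H, c ≠ d.base → c ≠ b → ∀ g ∈ d.D b, g • c = c → g ∈ W := by
    intro c hca hcb g hg hgc
    refine ⟨hg, (hWiff g hg).2 ?_⟩
    refine d.fix_two hb.symm hca.symm hcb.symm ?_ ?_ ?_ ?_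
    · exact MulAction.mem_stabilizer_iff.1 (pow_mem hg.1 _)
    · exact MulAction.mem_stabilizer_iff.1 (pow_mem hg.2 _)
    · exact MulAction.mem_stabilizer_iff.1 (pow_mem (MulAction.mem_stabilizer_iff.2 hgc) _)
    · rw [← pow_mul, mul_comm, pow_mul]
      exact (hWiff _ (pow_mem hg _)).1 (d.pow_mem_C (d.D_le b hg))
  -- counting
  have hdvd : 2 ^ n - 1 ∣ Nat.card {c : G ⧸ d.H // c ≠ d.base ∧ c ≠ b} := by
    letI : MulAction (d.D b) {c : G ⧸ d.H // c ≠ d.base ∧ c ≠ b} :=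
      { smul := fun g c => ⟨(g : G) • c.1,
          fun e => c.2.1 (MulAction.injective (g : G) (e.trans (MulAction.mem_stabilizer_iff.1 g.2.1).symm)),
          fun e => c.2.2 (MulAction.injective (g : G) (e.trans (MulAction.mem_stabilizer_iff.1 g.2.2).symm))⟩
        one_smul := fun c => Subtype.ext (one_smul G c.1)
        mul_smul := fun g g' c => Subtype.ext (mul_smul (g : G) (g' : G) c.1) }
    haveI := Fintype.ofFinite (MulAction.orbitRel.Quotient (d.D b) {c : G ⧸ d.H // c ≠ d.base ∧ c ≠ b})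
    rw [Nat.card_congr (MulAction.selfEquivSigmaOrbits (d.D b) {c : G ⧸ d.H // c ≠ d.base ∧ c ≠ b}),
      Nat.card_sigma]
    refine Finset.dvd_sum fun ω _ => ?_
    rw [Nat.card_congr (MulAction.orbitEquivQuotientStabilizer (d.D b) ω.out), ← Subgroup.index]
    have hle : MulAction.stabilizer (d.D b) ω.out ≤ d.C.subgroupOf (d.D b) := by
      intro g hg
      exact (hfix _ ω.out.2.1 ω.out.2.2 g g.2 (congrArg Subtype.val hg)).2
    refine dvd_trans (dvd_of_eq ?_) (Subgroup.index_dvd_of_le hle)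
    have h := Subgroup.card_mul_index (d.C.subgroupOf (d.D b))
    rw [Nat.card_congr (Subgroup.subgroupOfEquivOfLe (inf_le_left : d.D b ⊓ d.C ≤ d.D b)).toEquiv.symm,
      Subgroup.inf_subgroupOf_left] at hcard
    rw [hcard, mul_comm] at h
    exact (Nat.eq_of_mul_eq_mul_right Nat.card_pos h).symm
  -- the orbit of `b` under the point stabiliser
  have horb : Nat.card {c : G ⧸ d.H // c ≠ d.base} * Nat.card (d.D b) = Nat.card d.H := by
    have h1 := Nat.card_congr (MulAction.orbitEquivQuotientStabilizer (MulAction.stabilizer G d.base) b)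
    have h2 : MulAction.orbit (MulAction.stabilizer G d.base) b = {c | c ≠ d.base} := by
      ext c
      constructor
      · rintro ⟨g, rfl⟩ e
        exact hb (MulAction.injective (g : G) (e.trans (MulAction.mem_stabilizer_iff.1 g.2).symm))
      · intro hc
        obtain ⟨g, hga, hgb⟩ := d.two_trans hb.symm (Ne.symm hc)
        exact ⟨⟨g, hga⟩, hgb⟩
    rw [h2] at h1
    rw [show Nat.card {c : G ⧸ d.H // c ≠ d.base} = Nat.card ({c | c ≠ d.base} : Set (G ⧸ d.H)) from rfl,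
      h1, show Nat.card d.H = Nat.card (MulAction.stabilizer G d.base) by rw [d.stab]]
    have h3 : MulAction.stabilizer (MulAction.stabilizer G d.base) b =
        (d.D b).subgroupOf (MulAction.stabilizer G d.base) := by
      ext g; exact ⟨fun h => ⟨g.2, h⟩, fun h => h.2⟩
    rw [h3, ← Subgroup.index,
      ← Nat.card_congr (Subgroup.subgroupOfEquivOfLe (inf_le_left : d.D b ≤ MulAction.stabilizer G d.base)).toEquiv,
      mul_comm, Subgroup.card_mul_index]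
  have hH : Nat.card d.H = (2 ^ n - 1) * Nat.card d.C := by
    rw [← d.relIndex_C, Subgroup.relIndex, mul_comm,
      ← Nat.card_congr (Subgroup.subgroupOfEquivOfLe d.C_le).toEquiv, Subgroup.card_mul_index]
  have hq4 : 4 ≤ 2 ^ n := le_trans (by norm_num) (Nat.pow_le_pow_right (by norm_num) d.two_le)
  obtain ⟨hk, hq⟩ := odd_q_sub hn0
  obtain ⟨m, hm⟩ := hWdvd
  rw [hcard, hH, d.card_C, hm] at horb
  have hN : Nat.card {c : G ⧸ d.H // c ≠ d.base} = (2 ^ n) ^ 3 * m := by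
    refine Nat.eq_of_mul_eq_mul_right (m := (2 ^ n - 1) * Nat.card W) (Nat.mul_pos (by omega) Nat.card_pos) ?_
    rw [horb]; ring
  have hsplit : Nat.card {c : G ⧸ d.H // c ≠ d.base} = Nat.card {c : G ⧸ d.H // c ≠ d.base ∧ c ≠ b} + 1 := by
    have h1 := Set.ncard_diff_singleton_add_one (s := {c : G ⧸ d.H | c ≠ d.base}) (a := b) hb
    rw [← Nat.card_coe_set_eq, ← Nat.card_coe_set_eq] at h1
    exact h1.symm
  have hm1 : m = 1 := by
    have hm0 : 0 < m := Nat.pos_of_ne_zero fun e => by rw [e, mul_zero] at hm; omega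
    have hmle : m ≤ 2 ^ n + 1 := by rw [hm]; exact Nat.le_mul_of_pos_left m Nat.card_pos
    have hmodd : Odd m := hq.of_dvd_nat ⟨Nat.card W, by rw [mul_comm]; exact hm⟩
    obtain ⟨K, hK⟩ : ∃ K, K = 2 ^ n - 1 := ⟨_, rfl⟩
    have hqK : 2 ^ n = K + 1 := by omega
    obtain ⟨r, hr⟩ := hdvd
    rw [hN, hr, ← hK, hqK] at hsplit
    have hdiv : (K : ℤ) ∣ (m : ℤ) - 1 := ⟨(r : ℤ) - m * ((K : ℤ) ^ 2 + 3 * K + 3), by
      have : ((K : ℤ) + 1) ^ 3 * m = K * r + 1 := by exact_mod_cast hsplit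
      linear_combination this⟩
    obtain ⟨c, hc⟩ := hdiv
    have hc0 : 0 ≤ c := by nlinarith
    have hc2 : c < 2 := by nlinarith
    interval_cases c
    · omega
    · exfalso
      have : m = 2 ^ n := by omega
      exact (Nat.not_even_iff_odd.2 hmodd) (this ▸ (Nat.even_pow.2 ⟨by decide, by omega⟩))
  subst hm1
  rw [mul_one] at hN hm
  have hWc : Nat.card W = 2 ^ n + 1 := hm.symm
  -- `S` is regular on the other points
  have hSfree : ∀ s ∈ d.S, ∀ c : G ⧸ d.H, c ≠ d.base → s • c = c → s = 1 := by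
    intro s hs c hc e
    have hsD : s ∈ d.D c := ⟨d.stab.ge <| d.C_le (d.S_le hs), e⟩
    exact eq_one_of_two (StrongEmb.odd_two hse hc.symm)
      (orderOf_dvd_iff_pow_eq_one.1 (Subgroup.orderOf_dvd_natCard _ hsD)) (d.pow_S hs)
  have hStr : ∀ c : G ⧸ d.H, c ≠ d.base → ∃ s ∈ d.S, s • b = c := by
    have hSne : ∀ s : d.S, (s : G) • b ≠ d.base := fun s e => hb (MulAction.injective (s : G)
      (e.trans (MulAction.mem_stabilizer_iff.1 (d.stab.ge <| d.C_le (d.S_le s.2))).symm))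
    let f : d.S → {c : G ⧸ d.H // c ≠ d.base} := fun s => ⟨(s : G) • b, hSne s⟩
    have hf : Function.Bijective f := (Nat.bijective_iff_injective_and_card f).2 ⟨fun s s' e => by
      have e' : (s : G) • b = (s' : G) • b := congrArg Subtype.val e
      refine Subtype.ext (inv_mul_eq_one.1 (hSfree _ (mul_mem (inv_mem s.2) s'.2) b hb ?_))
      rw [mul_smul, ← e', inv_smul_smul], by rw [d.card_S, hN]⟩
    intro c hc
    obtain ⟨s, hs⟩ := hf.2 ⟨c, hc⟩
    exact ⟨s, s.2, congrArg Subtype.val hs⟩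
  have hsetup : Cfsg.IsRankOneSetup G (G ⧸ d.H) d.base t d.S := by
    refine
      { two_transitive := MulAction.is_two_pretransitive_iff.mpr fun {x y x' y'} h h' => d.two_trans h h'
        mul_self := htt
        ne_one := fun e => by rw [e, orderOf_one] at ht2; omega
        not_mem := fun e => hta e
        le := fun s hs => d.stab.ge <| d.C_le (d.S_le hs)
        conj_mem := fun h hh x hx => d.S_conj_H (d.stab ▸ hh) hx
        inf_eq_bot := ?_
        sup_eq := ?_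
        even_card := by rw [d.card_S]; exact Nat.even_pow.2 ⟨Nat.even_pow.2 ⟨by decide, by omega⟩, by norm_num⟩
        odd_card := hbdef ▸ hodd }
    · rw [eq_bot_iff]
      intro s hs
      exact Subgroup.mem_bot.2 (hSfree s hs.1 _ hta hs.2)
    · refine le_antisymm (sup_le (fun s hs => d.stab.ge <| d.C_le (d.S_le hs)) inf_le_left) fun g hg => ?_
      have hgb : g • b ≠ d.base := fun e => hb (MulAction.injective g
        (e.trans (MulAction.mem_stabilizer_iff.1 hg).symm))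
      obtain ⟨s, hs, hse'⟩ := hStr _ hgb
      rw [← mul_inv_cancel_left s g]
      refine Subgroup.mul_mem_sup hs ⟨mul_mem ((MulAction.stabilizer G d.base).inv_mem (d.stab.ge <| d.C_le (d.S_le hs))) hg, ?_⟩
      show (s⁻¹ * g) • t • d.base = t • d.base
      rw [← hbdef, mul_smul, ← hse', inv_smul_smul]
  obtain ⟨x, y, hx, hy, hx2, hy2, hxy, hc⟩ := d.four
  have h2 : ∀ {z : G}, orderOf z = 2 → z ≠ 1 ∧ z * z = 1 := fun {z} hz =>
    ⟨fun e => by rw [e, orderOf_one] at hz; omega, by rw [← sq, ← hz, pow_orderOf_eq_one]⟩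
  have hyp : Hyp G (G ⧸ d.H) d.base t d.S :=
    ⟨hsetup, x, y, (h2 hx2).1, (h2 hy2).1, hxy, (h2 hx2).2, (h2 hy2).2, hc.eq⟩
  have hDd : Dd d.base t = d.D b := by rw [hbdef]
  have hZz : ∀ z ∈ Zz G d.base, z ≠ 1 → z ∈ d.C ∧ orderOf z = 2 := by
    intro z hz hz1
    obtain ⟨hza, hzz⟩ := hyp.mem_Zz.1 hz
    have hz2 : orderOf z = 2 := orderOf_eq_prime (by rw [sq, hzz]) hz1
    exact ⟨d.invol_mem (d.stab ▸ hza) hz2, hz2⟩
  refine ⟨t, hfaith, hyp, IsPGroup.of_card (n := n * 3) (by rw [d.card_S, ← pow_mul]), ?_,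
    W, hWc, ?_, ?_, ?_, ?_⟩
  · have e : ((Zz G d.base : Subgroup G) : Set G) = insert 1 {z : G | orderOf z = 2 ∧ z ∈ d.C} := by
      ext z
      constructor
      · intro hz
        by_cases hz1 : z = 1
        · exact .inl hz1
        · exact .inr ⟨(hZz z hz hz1).2, (hZz z hz hz1).1⟩
      · rintro (rfl | ⟨hz2, hzC⟩)
        · exact one_mem _
        · exact hyp.mem_Zz.2 ⟨d.stab.ge <| d.C_le hzC, (h2 hz2).2⟩
    have : Nat.card (Zz G d.base) = ((Zz G d.base : Subgroup G) : Set G).ncard := Nat.card_coe_set_eq _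
    rw [this, e, Set.ncard_insert_of_notMem (by simp) (Set.toFinite _), ← Nat.card_coe_set_eq,
      show Nat.card ({z : G | orderOf z = 2 ∧ z ∈ d.C} : Set G) = 2 ^ n - 1 from d.count]
    omega
  · rintro z ⟨hzD, hzC⟩
    refine ⟨⟨hDd ▸ hzD, mem_centralizer_singleton_iff.2 (hcW z hzD hzC)⟩, mem_centralizer_iff.2 ?_⟩
    rintro j ⟨hj, hjw⟩
    exact (hcJ z hzD j (hDd ▸ hj) hzC hjw).symm
  · rintro z ⟨hzD, hzC⟩ z' ⟨hzD', hzC'⟩
    have h1 : z * z' * z⁻¹ * z'⁻¹ ∈ d.D b :=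
      mul_mem (mul_mem (mul_mem hzD hzD') (inv_mem hzD)) (inv_mem hzD')
    have := eq_one_of_two hodd (orderOf_dvd_iff_pow_eq_one.1 (Subgroup.orderOf_dvd_natCard _ h1))
      (d.pow_S (d.comm_mem z hzC z' hzC'))
    rwa [mul_inv_eq_one, mul_inv_eq_iff_eq_mul] at this
  · rintro z ⟨-, hzC⟩ w hw
    by_cases hw1 : w = 1
    · rw [hw1, mul_one, one_mul]
    obtain ⟨hwC, hw2⟩ := hZz w hw hw1
    exact (d.central w hwC hw2 z hzC).symm
  · intro g hg
    obtain ⟨j, hj, z, hzD, hzC, hjw, rfl⟩ := hdec g (hDd ▸ hg)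
    exact ⟨z, ⟨hzD, hzC⟩, j, ⟨hDd ▸ hj, hjw⟩, rfl⟩

end CData

end Cfsg.Lib.PGU3Even
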